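import Mathlib
import Cfsg.Agent.Classification.SimpleIndex
import Cfsg.Agent.LieRecognition.FT61.Grp
import Cfsg.Agent.H398.CC.Group
import Cfsg.Agent.H398.Dih.Reduce

/-!
# Almost simple groups with a core-free maximal dihedral subgroup
-/

set_option autoImplicit false

namespace Cfsg.Agent.H398.Dih

open Subgroup
open Cfsg.Agent.H398.CC (IsDCC)

universe u

variable {G : Type u} [Group G] {H C T : Subgroup G}

/-- `H` is maximal, core-free and dihedral, `T` a nonabelian simple normal subgroup with `H ⊓ T ≠ ⊥` -/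
structure Alm (H C T : Subgroup G) : Prop where
  mx : Max H C
  nor : T.Normal
  simp : IsSimpleGroup T
  na : ¬ IsMulCommutative T
  inf : H ⊓ T ≠ ⊥

namespace Alm

variable (h : Alm H C T)

include h

theorem dih : IsDih H C := h.mx.dih

theorem normalizer_eq {X : Subgroup G} (hX : X ≤ C) (hX1 : X ≠ ⊥) : normalizer (X : Set G) = H :=
  h.mx.normalizer_eq (hX.trans h.dih.le) hX1 (h.dih.le_normalizer hX)

/-- the centralizer of a nontrivial rotation is in `H` -/
theorem mem_of_comm {x y : G} (hx : x ∈ C) (hx1 : x ≠ 1) (hxy : y * x = x * y) : y ∈ H := by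
  have h0 : zpowers x ≤ C := by rw [zpowers_le]; exact hx
  rw [← h.normalizer_eq h0 (by rwa [Ne, zpowers_eq_bot])]
  apply centralizer_le_normalizer
  rw [mem_centralizer_iff]
  rintro _ ⟨k, rfl⟩
  exact ((show Commute y x from hxy).zpow_right k).symm.eq

/-- `H ⊓ T` contains a reflection -/
theorem not_le [Finite G] : ¬ H ⊓ T ≤ C := by
  intro hle
  have hsimp := h.simp
  have h1 : Nat.card (H ⊓ T : Subgroup G) ≠ 1 := fun h1 => h.inf (Subgroup.card_eq_one.1 h1)
  obtain ⟨p, hp, hpR⟩ := Nat.exists_prime_and_dvd h1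
  have hpf := Fact.mk hp
  obtain ⟨⟨x, hxR⟩, hx⟩ := exists_prime_orderOf_dvd_card' p hpR
  rw [Subgroup.orderOf_mk] at hx
  have hxC := hle hxR
  have hx1 : x ≠ 1 := by
    rintro rfl
    rw [orderOf_one] at hx
    exact hp.one_lt.ne hx
  have hxT : x ∈ T := hxR.2
  -- a Sylow `p`-subgroup of `T` containing `x`
  have h0 : IsPGroup p (zpowers (⟨x, hxT⟩ : T)) := by
    apply IsPGroup.of_card (n := 1)
    rw [Nat.card_zpowers, pow_one, Subgroup.orderOf_mk, hx]
  obtain ⟨S, hS⟩ := h0.exists_le_sylow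
  have hxS : (⟨x, hxT⟩ : T) ∈ (S : Subgroup T) := hS (mem_zpowers _)
  have hnt : Nontrivial S := ⟨⟨⟨⟨x, hxT⟩, hxS⟩, 1, fun h2 => hx1 (congrArg (fun y : S => ((y : T) : G)) h2)⟩⟩
  have h2 := S.2.center_nontrivial
  obtain ⟨⟨z, hzc⟩, hz1⟩ := _root_.exists_ne (1 : Subgroup.center S)
  have hz1' : ((z : T) : G) ≠ 1 := fun h3 => hz1 (Subtype.ext (Subtype.ext (Subtype.ext h3)))
  have hzc' : ∀ s : T, s ∈ (S : Subgroup T) → (s : G) * ((z : T) : G) = ((z : T) : G) * s := by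
    intro s hs
    exact congrArg (fun y : S => ((y : T) : G)) ((mem_center_iff.1 hzc) ⟨s, hs⟩)
  have hzC : ((z : T) : G) ∈ C :=
    hle (mem_inf.2 ⟨h.mem_of_comm hxC hx1 (hzc' _ hxS).symm, (z : T).2⟩)
  have hSC : ∀ s : T, s ∈ (S : Subgroup T) → (s : G) ∈ C := fun s hs =>
    hle (mem_inf.2 ⟨h.mem_of_comm hzC hz1' (hzc' s hs), s.2⟩)
  have hSmap : ((S : Subgroup T).map T.subtype) ≤ C := by
    rintro _ ⟨s, hs, rfl⟩
    exact hSC s hs
  have hnorm : normalizer (((S : Subgroup T).map T.subtype : Subgroup G) : Set G) = H := by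
    apply h.normalizer_eq hSmap
    intro h3
    have h4 : x ∈ (S : Subgroup T).map T.subtype := ⟨_, hxS, rfl⟩
    rw [h3, mem_bot] at h4
    exact hx1 h4
  refine Cfsg.Agent.Classification.SimpleIndex.not_normalizer_le_centralizer h.na p ?_ S ?_
  · have h3 := orderOf_dvd_natCard (⟨x, hxT⟩ : T)
    rwa [Subgroup.orderOf_mk, hx] at h3
  · intro n hn
    have hnH : (n : G) ∈ H := by
      rw [← hnorm, mem_normalizer_iff]
      intro y
      constructor
      · rintro ⟨s, hs, rfl⟩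
        exact ⟨n * s * n⁻¹, (mem_normalizer_iff.1 hn s).1 hs, rfl⟩
      · rintro ⟨s, hs, hsy⟩
        refine ⟨n⁻¹ * s * n, ?_, ?_⟩
        · have := (mem_normalizer_iff.1 (inv_mem hn) s).1 hs
          rwa [inv_inv] at this
        · have hsy' : (s : G) = n * y * (n : G)⁻¹ := hsy
          show (n : G)⁻¹ * s * n = y
          rw [hsy']; group
    have hnC : (n : G) ∈ C := hle (mem_inf.2 ⟨hnH, n.2⟩)
    rw [mem_centralizer_iff]
    intro s hs
    exact Subtype.ext (h.dih.comm (hSC s hs) hnC)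

theorem exists_refl [Finite G] : ∃ s ∈ H, s ∈ T ∧ s ∉ C := by
  by_contra hcon
  push Not at hcon
  exact h.not_le fun x hx => hcon x hx.1 hx.2

/-- squares of rotations are in `T` -/
theorem sq_mem [Finite G] {c : G} (hc : c ∈ C) : c * c ∈ T := by
  obtain ⟨s, hsH, hsT, hsC⟩ := h.exists_refl
  have h1 := h.dih.inv s hsH hsC c hc
  have h2 : c * c = c * s * c⁻¹ * s⁻¹ := by
    have h3 := h.dih.inv s hsH hsC c⁻¹ (inv_mem hc)
    rw [inv_inv] at h3
    calc c * c = c * (s * c⁻¹ * s⁻¹) := by rw [h3]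
      _ = _ := by group
  rw [h2]
  exact mul_mem (h.nor.conj_mem s hsT c) (inv_mem hsT)

/-- the product of two rotations not in `T` is in `T` -/
theorem mul_mem_T [Finite G] {c d : G} (hc : c ∈ C) (hd : d ∈ C) (hcT : c ∉ T) (hdT : d ∉ T) : c * d ∈ T := by
  have := h.dih.cyc
  obtain ⟨⟨g, hgC⟩, hg⟩ := IsCyclic.exists_generator (α := C)
  obtain ⟨i, hi⟩ := hg ⟨c, hc⟩
  obtain ⟨j, hj⟩ := hg ⟨d, hd⟩
  have hi' : g ^ i = c := congrArg Subtype.val hi
  have hj' : g ^ j = d := congrArg Subtype.val hj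
  have hgg : g * g ∈ T := h.sq_mem hgC
  have hev : ∀ k : ℤ, g ^ (k + k) ∈ T := by
    intro k
    have : g ^ (k + k) = (g * g) ^ k := by
      rw [zpow_add, (Commute.refl g).mul_zpow]
    rw [this]; exact zpow_mem hgg k
  rcases Int.even_or_odd' i with ⟨a, rfl | rfl⟩
  · exact absurd (by rw [← hi', two_mul]; exact hev a) hcT
  rcases Int.even_or_odd' j with ⟨b, rfl | rfl⟩
  · exact absurd (by rw [← hj', two_mul]; exact hev b) hdT
  rw [← hi', ← hj', ← zpow_add]
  have : (2 * a + 1 + (2 * b + 1) : ℤ) = (a + b + 1) + (a + b + 1) := by ring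
  rw [this]; exact hev _

omit h in
theorem card_eq_two_mul [Finite G] {A B : Subgroup G} (hBA : B ≤ A) {s : G} (hsA : s ∈ A) (hsB : s ∉ B)
    (hm : ∀ t ∈ A, t ∉ B → s * t ∈ B) : Nat.card A = 2 * Nat.card B := by
  have h1 : B.relIndex A = 2 := by
    rw [Subgroup.relIndex, index_eq_two_iff_exists_notMem_and']
    refine ⟨⟨s, hsA⟩, fun h1 => hsB h1, ?_⟩
    rintro ⟨t, ht⟩
    by_cases htB : t ∈ B
    · right; exact htB
    · left; exact hm t ht htB
  rw [← h1]
  have h2 := Subgroup.card_mul_index (B.subgroupOf A)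
  rw [← Subgroup.relIndex, Nat.card_congr (Subgroup.subgroupOfEquivOfLe hBA).toEquiv] at h2
  rw [← h2, mul_comm]

theorem inf_ne_bot [Finite G] : (C ⊓ T : Subgroup G) ≠ ⊥ := by
  obtain ⟨c, hcC, hcc⟩ := h.dih.exists_sq_ne
  have hccT : c * c ∈ C ⊓ T := mem_inf.2 ⟨mul_mem hcC hcC, h.sq_mem hcC⟩
  intro h1
  rw [h1, mem_bot] at hccT
  exact hcc hccT

theorem normalizer_subgroupOf [Finite G] :
    normalizer (((C ⊓ T : Subgroup G).subgroupOf T : Subgroup T) : Set T) =
      (H ⊓ T : Subgroup G).subgroupOf T := by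
  have hn := h.nor
  have hmem : ∀ y : T, y ∈ (C ⊓ T : Subgroup G).subgroupOf T ↔ (y : G) ∈ C := by
    intro y
    rw [mem_subgroupOf, mem_inf]
    exact ⟨fun h1 => h1.1, fun h1 => ⟨h1, y.2⟩⟩
  ext n
  rw [mem_subgroupOf, mem_inf, ← h.normalizer_eq (X := C ⊓ T) inf_le_left h.inf_ne_bot, mem_normalizer_iff,
    mem_normalizer_iff]
  constructor
  · intro h1
    refine ⟨fun y => ?_, n.2⟩
    constructor
    · rintro ⟨hyC, hyT⟩
      have := (h1 ⟨y, hyT⟩).1 ((hmem _).2 hyC)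
      exact mem_inf.2 ⟨(hmem _).1 this, hn.conj_mem y hyT n⟩
    · rintro ⟨hyC, hyT⟩
      have hyT' : y ∈ T := by
        have := hn.conj_mem _ hyT (n : G)⁻¹
        have h3 : (n : G)⁻¹ * (n * y * (n : G)⁻¹) * (n : G)⁻¹⁻¹ = y := by group
        rwa [h3] at this
      exact mem_inf.2 ⟨(hmem _).1 ((h1 ⟨y, hyT'⟩).2 ((hmem _).2 hyC)), hyT'⟩
  · rintro ⟨h1, -⟩ y
    exact (h1 (y : G))

/-- the rotations of `T` form an abelian CC-subgroup of `T`, if their number is odd -/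
theorem isDCC [Finite G] (hodd : Odd (Nat.card (C ⊓ T : Subgroup G))) :
    IsDCC ((C ⊓ T : Subgroup G).subgroupOf T) := by
  have hn := h.nor
  have hle : (C ⊓ T : Subgroup G) ≤ T := inf_le_right
  have hmem : ∀ y : T, y ∈ (C ⊓ T : Subgroup G).subgroupOf T ↔ (y : G) ∈ C := by
    intro y
    rw [mem_subgroupOf, mem_inf]
    exact ⟨fun h1 => h1.1, fun h1 => ⟨h1, y.2⟩⟩
  have hcard : Nat.card ((C ⊓ T : Subgroup G).subgroupOf T) = Nat.card (C ⊓ T : Subgroup G) :=
    Nat.card_congr (Subgroup.subgroupOfEquivOfLe hle).toEquiv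
  have hsq : ∀ y ∈ C ⊓ T, y ≠ 1 → y * y ≠ 1 := by
    intro y hy hy1 hyy
    have h1 : orderOf y = 2 := orderOf_eq_prime (by rw [pow_two, hyy]) hy1
    have h2 := orderOf_dvd_natCard (⟨y, hy⟩ : (C ⊓ T : Subgroup G))
    rw [Subgroup.orderOf_mk, h1] at h2
    exact (Nat.not_even_iff_odd.2 hodd) (even_iff_two_dvd.2 h2)
  have hnb := h.inf_ne_bot
  have hnorm := h.normalizer_subgroupOf
  obtain ⟨s, hsH, hsT, hsC⟩ := h.exists_refl
  refine ⟨?_, ?_, ?_, ?_, ?_, ?_⟩
  · intro x hx y hy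
    exact Subtype.ext (h.dih.comm ((hmem x).1 hx) ((hmem y).1 hy))
  · intro y hy hy1 x hxy
    have hyC := (hmem y).1 hy
    have hy1' : (y : G) ≠ 1 := fun h1 => hy1 (Subtype.ext h1)
    have hxy' : (x : G) * y = y * x := congrArg Subtype.val hxy
    rw [hmem]
    exact h.dih.mem_of_comm (h.mem_of_comm hyC hy1' hxy') hyC (hsq y (mem_inf.2 ⟨hyC, y.2⟩) hy1') hxy'
  · intro y hy hy1 x hxy
    have hyC := (hmem y).1 hy
    have hy1' : (y : G) ≠ 1 := fun h1 => hy1 (Subtype.ext h1)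
    have hxC : (x : G) * y * (x : G)⁻¹ ∈ C := (hmem _).1 hxy
    have ho : orderOf ((x : G) * y * (x : G)⁻¹) = orderOf (y : G) := by
      have := MulEquiv.orderOf_eq (MulAut.conj (x : G)) (y : G)
      rwa [MulAut.conj_apply] at this
    have h1 := Cfsg.Agent.LieRecognition.FT61.Grp.zpowers_eq_of_orderOf h.dih.cyc hxC hyC ho
    rw [hnorm, mem_subgroupOf, mem_inf]
    refine ⟨?_, x.2⟩
    rw [← h.normalizer_eq (X := zpowers (y : G)) (by rw [zpowers_le]; exact hyC)
      (by rwa [Ne, zpowers_eq_bot])]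
    rw [mem_normalizer_iff]
    intro z
    constructor
    · rintro ⟨k, rfl⟩
      rw [← h1]
      exact ⟨k, by simp only [conj_zpow]⟩
    · intro hz
      rw [← h1] at hz
      obtain ⟨k, hk⟩ := hz
      refine ⟨k, ?_⟩
      simp only [conj_zpow] at hk
      exact mul_left_cancel (mul_right_cancel hk)
  · rw [hcard]; exact hodd
  · rw [hcard, Subgroup.one_lt_card_iff_ne_bot]
    exact hnb
  · rw [hnorm, hcard, Nat.card_congr (Subgroup.subgroupOfEquivOfLe (inf_le_right : H ⊓ T ≤ T)).toEquiv]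
    apply card_eq_two_mul (s := s) (inf_le_inf_right T h.dih.le) (mem_inf.2 ⟨hsH, hsT⟩)
      (fun h1 => hsC h1.1)
    intro t ht htC
    have htC' : t ∉ C := fun h1 => htC (mem_inf.2 ⟨h1, ht.2⟩)
    exact mem_inf.2 ⟨h.dih.mul s hsH hsC t ht.1 htC', mul_mem hsT ht.2⟩

/-- `|C|` odd: `T = G` -/
theorem eq_top_of_odd [Finite G] (hodd : Odd (Nat.card C)) : T = ⊤ := by
  have hCT : C ≤ T := by
    intro c hc
    obtain ⟨k, hk⟩ := hodd
    have h1 : (⟨c, hc⟩ : C) ^ Nat.card C = 1 := pow_card_eq_one'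
    have h2 : c ^ Nat.card C = 1 := congrArg Subtype.val h1
    have h3 : c ^ (k + 1) * c ^ (k + 1) = c := by
      rw [← pow_add]
      have : k + 1 + (k + 1) = (2 * k + 1) + 1 := by ring
      rw [this, ← hk, pow_succ, h2, one_mul]
    rw [← h3]
    exact h.sq_mem (pow_mem hc _)
  obtain ⟨s, hsH, hsT, hsC⟩ := h.exists_refl
  have hHT : H ≤ T := by
    intro t ht
    by_cases htC : t ∈ C
    · exact hCT htC
    · have h1 := hCT (h.dih.inv_mul_mem hsH hsC ht htC)
      have h2 : t = s * (s⁻¹ * t) := by group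
      rw [h2]; exact mul_mem hsT h1
  have hn := h.nor
  by_contra hcon
  have h1 : T ≠ ⊥ := by
    rintro rfl
    exact h.inf (le_bot_iff.1 inf_le_right)
  have h2 := h.mx.sup_eq_top h1
  rw [sup_eq_right.2 hHT] at h2
  exact hcon h2

theorem isCoatom_of_top [Finite G] (hT : T = ⊤) :
    IsCoatom (normalizer (((C ⊓ T : Subgroup G).subgroupOf T : Subgroup T) : Set T)) := by
  rw [h.normalizer_subgroupOf]
  subst hT
  rw [inf_top_eq]
  have hmax := h.mx.max
  constructor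
  · intro h1
    rw [subgroupOf_eq_top] at h1
    exact hmax.1 (top_le_iff.1 h1)
  · intro K hK
    have h1 : H ≤ K.map (⊤ : Subgroup G).subtype := by
      intro x hx
      exact ⟨⟨x, mem_top x⟩, hK.le (mem_subgroupOf.2 hx), rfl⟩
    have h2 : H ≠ K.map (⊤ : Subgroup G).subtype := by
      intro h2
      apply hK.ne
      ext x
      rw [mem_subgroupOf, h2]
      constructor
      · rintro ⟨y, hy, hyx⟩
        rwa [← Subtype.ext hyx]
      · intro hx
        exact ⟨x, hx, rfl⟩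
    have h3 := hmax.2 _ (lt_of_le_of_ne h1 h2)
    rw [eq_top_iff]
    intro x _
    have h4 : (x : G) ∈ K.map (⊤ : Subgroup G).subtype := by rw [h3]; exact mem_top _
    obtain ⟨y, hy, hyx⟩ := h4
    rwa [← Subtype.ext hyx]

/-! ### the central involution -/

/-- `|C|` even: the central involution of `H` -/
theorem exists_z [Finite G] (heven : Even (Nat.card C)) : ∃ z ∈ C, z ≠ 1 ∧ z * z = 1 ∧
    (∀ y ∈ H, y * z = z * y) ∧ ∀ y : G, y * z = z * y → y ∈ H := by
  have : Fact (Nat.Prime 2) := ⟨Nat.prime_two⟩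
  obtain ⟨⟨z, hz⟩, hz2⟩ := exists_prime_orderOf_dvd_card' (G := C) 2 (even_iff_two_dvd.1 heven)
  rw [Subgroup.orderOf_mk] at hz2
  have hz1 : z ≠ 1 := by
    rintro rfl
    rw [orderOf_one] at hz2
    exact absurd hz2 (by norm_num)
  have hzz : z * z = 1 := by
    rw [← pow_two, ← hz2, pow_orderOf_eq_one]
  refine ⟨z, hz, hz1, hzz, fun y hy => ?_, fun y hy => h.mem_of_comm hz hz1 hy⟩
  have h1 : y * z * y⁻¹ = z := by
    rcases h.dih.conj_or hy hz with h1 | h1
    · exact h1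
    · rw [h1]; exact inv_eq_of_mul_eq_one_left hzz
  calc y * z = (y * z * y⁻¹) * y := by group
    _ = z * y := by rw [h1]

/-- the involution `z` not in `T`: the number of rotations of `T` is odd -/
theorem odd_of_not_mem [Finite G] {z : G} (hz : z ∈ C) (hz1 : z ≠ 1) (hzz : z * z = 1) (hzT : z ∉ T) :
    Odd (Nat.card (C ⊓ T : Subgroup G)) := by
  have : Fact (Nat.Prime 2) := ⟨Nat.prime_two⟩
  by_contra hcon
  rw [Nat.not_odd_iff_even] at hcon
  obtain ⟨⟨w, hw⟩, hw2⟩ := exists_prime_orderOf_dvd_card' (G := (C ⊓ T : Subgroup G)) 2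
    (even_iff_two_dvd.1 hcon)
  rw [Subgroup.orderOf_mk] at hw2
  have hw1 : w ≠ 1 := by
    rintro rfl
    rw [orderOf_one] at hw2
    exact absurd hw2 (by norm_num)
  have hww : w * w = 1 := by
    rw [← pow_two, ← hw2, pow_orderOf_eq_one]
  have h1 := h.dih.eq_of_sq hz hw.1 hzz hww hz1 hw1
  rw [h1] at hzT
  exact hzT hw.2

end Alm

end Cfsg.Agent.H398.Dih
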