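import Mathlib

/-!
# Dihedral subgroups: `IsDih H C` (`C` is the cyclic subgroup of rotations of the dihedral subgroup `H`)
-/

set_option autoImplicit false

namespace Cfsg.Agent.H398.Dih

open Subgroup

variable {G : Type*} [Group G]

/-- `H` is dihedral with cyclic subgroup of rotations `C`, `|C| ≥ 3`. -/
structure IsDih (H C : Subgroup G) : Prop where
  le : C ≤ H
  cyc : IsCyclic C
  inv : ∀ s ∈ H, s ∉ C → ∀ c ∈ C, s * c * s⁻¹ = c⁻¹
  sq : ∀ s ∈ H, s ∉ C → s * s = 1
  mul : ∀ s ∈ H, s ∉ C → ∀ t ∈ H, t ∉ C → s * t ∈ C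
  ex : ∃ s ∈ H, s ∉ C
  three : 3 ≤ Nat.card C

theorem exists_isDih {H : Subgroup G} {m : ℕ} (hm : 3 ≤ m) (e : H ≃* DihedralGroup m) :
    ∃ C : Subgroup G, IsDih H C ∧ Nat.card C = m := by
  have : NeZero m := ⟨by omega⟩
  set x : G := (e.symm (DihedralGroup.r 1) : G) with hx
  have hxH : x ∈ H := (e.symm (DihedralGroup.r 1)).2
  have hr : ∀ i : ZMod m, (e.symm (DihedralGroup.r i) : G) ∈ zpowers x := by
    intro i
    refine ⟨(i.val : ℤ), ?_⟩
    show x ^ ((i.val : ℕ) : ℤ) = _
    rw [zpow_natCast, hx, ← Subgroup.coe_pow, ← map_pow, DihedralGroup.r_one_pow, ZMod.natCast_zmod_val]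
  have hsr : ∀ i : ZMod m, (e.symm (DihedralGroup.sr i) : G) ∉ zpowers x := by
    rintro i ⟨k, hk⟩
    have hk' : x ^ k = (e.symm (DihedralGroup.sr i) : G) := hk
    rw [hx, ← Subgroup.coe_zpow, ← map_zpow] at hk'
    have h1 := e.symm.injective (Subtype.ext hk')
    have h2 : ∀ k : ℤ, ∃ j : ZMod m, (DihedralGroup.r 1 : DihedralGroup m) ^ k = DihedralGroup.r j := by
      intro k
      rcases k with k | k
      · exact ⟨k, by rw [Int.ofNat_eq_natCast, zpow_natCast, DihedralGroup.r_one_pow]⟩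
      · refine ⟨-((k + 1 : ℕ) : ZMod m), ?_⟩
        rw [zpow_negSucc, DihedralGroup.r_one_pow]
        rfl
    obtain ⟨j, hj⟩ := h2 k
    rw [hj] at h1
    exact absurd h1 (by simp)
  have key : ∀ s ∈ H, s ∉ zpowers x → ∃ i : ZMod m, s = (e.symm (DihedralGroup.sr i) : G) := by
    intro s hs hsx
    have h1 : (⟨s, hs⟩ : H) = e.symm (e ⟨s, hs⟩) := (e.symm_apply_apply _).symm
    rcases h2 : e ⟨s, hs⟩ with i | i
    · exfalso
      rw [h2] at h1
      apply hsx
      have := hr i
      rw [← h1] at this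
      exact this
    · rw [h2] at h1
      exact ⟨i, congrArg Subtype.val h1⟩
  have hcard : Nat.card (zpowers x) = m := by
    rw [Nat.card_zpowers, hx, Subgroup.orderOf_coe, MulEquiv.orderOf_eq, DihedralGroup.orderOf_r_one]
  refine ⟨zpowers x, ⟨?_, ?_, ?_, ?_, ?_, ?_, ?_⟩, hcard⟩
  · rw [zpowers_le]; exact hxH
  · infer_instance
  · intro s hs hsx c hc
    obtain ⟨i, rfl⟩ := key s hs hsx
    obtain ⟨k, rfl⟩ := hc
    show _ * x ^ k * _ = (x ^ k)⁻¹
    have h1 : (e.symm (DihedralGroup.sr i) : G) * x * (e.symm (DihedralGroup.sr i) : G)⁻¹ = x⁻¹ := by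
      rw [hx, ← Subgroup.coe_mul, ← Subgroup.coe_inv, ← Subgroup.coe_mul, ← Subgroup.coe_inv, ← map_mul,
        ← map_inv, ← map_mul, ← map_inv]
      congr 2
      simp
    rw [← conj_zpow, h1, inv_zpow]
  · intro s hs hsx
    obtain ⟨i, rfl⟩ := key s hs hsx
    rw [← Subgroup.coe_mul, ← map_mul, DihedralGroup.sr_mul_self, map_one, Subgroup.coe_one]
  · intro s hs hsx t ht htx
    obtain ⟨i, rfl⟩ := key s hs hsx
    obtain ⟨j, rfl⟩ := key t ht htx
    rw [← Subgroup.coe_mul, ← map_mul, DihedralGroup.sr_mul_sr]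
    exact hr _
  · exact ⟨_, (e.symm (DihedralGroup.sr 0)).2, hsr 0⟩
  · rw [hcard]; exact hm

namespace IsDih

variable {H C : Subgroup G} (h : IsDih H C)

include h

theorem comm {a b : G} (ha : a ∈ C) (hb : b ∈ C) : a * b = b * a := by
  have := h.cyc
  have h1 : IsMulCommutative C := IsCyclic.isMulCommutative
  have := h1.is_comm.comm (⟨a, ha⟩ : C) ⟨b, hb⟩
  exact congrArg Subtype.val this

theorem finite : Finite C := Nat.finite_of_card_ne_zero (by have := h.three; omega)

/-- conjugation in `H` of a rotation gives it or its inverse -/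
theorem conj_or {x c : G} (hx : x ∈ H) (hc : c ∈ C) : x * c * x⁻¹ = c ∨ x * c * x⁻¹ = c⁻¹ := by
  by_cases hxC : x ∈ C
  · left
    rw [h.comm hxC hc, mul_inv_cancel_right]
  · right
    exact h.inv x hx hxC c hc

/-- every subgroup of rotations is normalised by `H` -/
theorem le_normalizer {X : Subgroup G} (hX : X ≤ C) : H ≤ normalizer (X : Set G) := by
  intro x hx
  rw [mem_normalizer_iff]
  intro c
  constructor
  · intro hc
    rcases h.conj_or hx (hX hc) with h1 | h1
    · rw [h1]; exact hc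
    · rw [h1]; exact inv_mem hc
  · intro hc
    rcases h.conj_or (inv_mem hx) (hX hc) with h1 | h1
    · have h2 : c = x * c * x⁻¹ := by
        rw [← h1]; group
      rw [h2]; exact hc
    · have h2 : c = (x * c * x⁻¹)⁻¹ := by
        rw [← h1]; group
      rw [h2]; exact inv_mem hc

theorem mem_of_sq_ne {x : G} (hx : x ∈ H) (hne : x * x ≠ 1) : x ∈ C := by
  by_contra hxC
  exact hne (h.sq x hx hxC)

/-- elements commuting with a rotation of order `> 2` are rotations -/
theorem mem_of_comm {x c : G} (hx : x ∈ H) (hc : c ∈ C) (hc2 : c * c ≠ 1) (hxc : x * c = c * x) : x ∈ C := by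
  by_contra hxC
  apply hc2
  have h1 := h.inv x hx hxC c hc
  rw [hxc, mul_inv_cancel_right] at h1
  calc c * c = c * c⁻¹ := by rw [← h1]
    _ = 1 := mul_inv_cancel c

theorem inv_mul_mem {s t : G} (hs : s ∈ H) (hsC : s ∉ C) (ht : t ∈ H) (htC : t ∉ C) : s⁻¹ * t ∈ C :=
  h.mul s⁻¹ (inv_mem hs) (fun h1 => hsC (by rw [← inv_inv s]; exact inv_mem h1)) t ht htC

/-- there is a rotation of order `> 2` -/
theorem exists_sq_ne : ∃ c ∈ C, c * c ≠ 1 := by
  have := h.cyc
  have := h.finite
  obtain ⟨g, hg⟩ := IsCyclic.exists_generator (α := C)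
  refine ⟨g, g.2, ?_⟩
  intro h1
  have h2 : orderOf g ∣ 2 := by
    apply orderOf_dvd_of_pow_eq_one
    rw [pow_two]; exact Subtype.ext h1
  have h3 : Nat.card C = orderOf g := (orderOf_eq_card_of_forall_mem_zpowers hg).symm
  have h4 := Nat.le_of_dvd (by norm_num) h2
  have h5 := h.three
  omega

theorem centralizer_eq (hle : centralizer (C : Set G) ≤ H) : centralizer (C : Set G) = C := by
  obtain ⟨c, hc, hc2⟩ := h.exists_sq_ne
  apply le_antisymm
  · intro x hx
    exact h.mem_of_comm (hle hx) hc hc2 ((mem_centralizer_iff.1 hx c hc).symm)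
  · intro x hx
    rw [mem_centralizer_iff]
    intro y hy
    exact h.comm hy hx

/-- the involution of `C` is unique -/
theorem eq_of_sq {a b : G} (ha : a ∈ C) (hb : b ∈ C) (ha2 : a * a = 1) (hb2 : b * b = 1) (ha1 : a ≠ 1)
    (hb1 : b ≠ 1) : a = b := by
  classical
  have := h.cyc
  have := h.finite
  have i1 : Fintype C := Fintype.ofFinite C
  have h1 := IsCyclic.card_pow_eq_one_le (α := C) (n := 2) (by norm_num)
  by_contra hab
  have h2 : ({1, ⟨a, ha⟩, ⟨b, hb⟩} : Finset C) ⊆ Finset.univ.filter fun x : C => x ^ 2 = 1 := by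
    intro x hx
    simp only [Finset.mem_insert, Finset.mem_singleton] at hx
    rw [Finset.mem_filter]
    refine ⟨Finset.mem_univ _, ?_⟩
    rcases hx with rfl | rfl | rfl
    · exact one_pow 2
    · rw [pow_two]; exact Subtype.ext ha2
    · rw [pow_two]; exact Subtype.ext hb2
  have h3 := Finset.card_le_card h2
  rw [Finset.card_insert_of_notMem, Finset.card_insert_of_notMem, Finset.card_singleton] at h3
  · omega
  · rw [Finset.mem_singleton]
    intro h4
    exact hab (congrArg Subtype.val h4)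
  · rw [Finset.mem_insert, Finset.mem_singleton]
    rintro (h4 | h4)
    · exact ha1 (congrArg Subtype.val h4).symm
    · exact hb1 (congrArg Subtype.val h4).symm

end IsDih

end Cfsg.Agent.H398.Dih
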