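import Mathlib
import Cfsg.Agent.H398.Dih.Reduce

/-!
# Finite groups with a core-free maximal dihedral subgroup: the socle is simple or abelian
-/

set_option autoImplicit false

namespace Cfsg.Agent.H398.Dih

open Subgroup
open scoped Pointwise

universe u

variable {G : Type u} [Group G] {H C : Subgroup G}

/-- `N` is a minimal normal subgroup, not abelian -/
structure MinNor (N : Subgroup G) : Prop where
  normal : N.Normal
  min : ∀ M : Subgroup G, M.Normal → M ≤ N → M = ⊥ ∨ M = N
  na : ∃ x ∈ N, ∃ y ∈ N, x * y ≠ y * x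

namespace MinNor

variable {N : Subgroup G} (hN : MinNor N)

include hN

theorem ne_bot : N ≠ ⊥ := by
  rintro rfl
  obtain ⟨x, hx, y, hy, hxy⟩ := hN.na
  rw [mem_bot] at hx hy
  exact hxy (by rw [hx, hy])

theorem inf_centralizer : N ⊓ centralizer (N : Set G) = ⊥ := by
  have := hN.normal
  rcases hN.min (N ⊓ centralizer (N : Set G)) inferInstance inf_le_left with h1 | h1
  · exact h1
  · exfalso
    obtain ⟨x, hx, y, hy, hxy⟩ := hN.na
    rw [← h1] at hx
    exact hxy (mem_centralizer_iff.1 hx.2 y hy).symm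

theorem not_nilpotent [Finite G] : ¬ Group.IsNilpotent N := by
  intro hnil
  have h1 : Nontrivial N := (Subgroup.nontrivial_iff_ne_bot N).2 hN.ne_bot
  obtain ⟨⟨z, hzc⟩, hz1⟩ := ne_bot_iff_exists_ne_one.1 (Group.IsNilpotent.center_ne_bot (G := N))
  have h3 : (z : G) ∈ N ⊓ centralizer (N : Set G) := by
    refine mem_inf.2 ⟨z.2, mem_centralizer_iff.2 fun y hy => ?_⟩
    exact congrArg Subtype.val ((mem_center_iff.1 hzc) ⟨y, hy⟩)
  rw [hN.inf_centralizer, mem_bot] at h3
  exact hz1 (Subtype.ext (Subtype.ext h3))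

/-- `N` is generated by the conjugates of `T` -/
theorem le_of_cj_le {T : Subgroup G} (hT : MinIn N T) {K : Subgroup G} (hK : ∀ g, cj g T ≤ K) : N ≤ K := by
  have hn := hN.normal
  have h1 : normalClosure (T : Set G) ≤ N := normalClosure_le_normal hT.le
  have h2 : normalClosure (T : Set G) = N := by
    rcases hN.min _ normalClosure_normal h1 with h2 | h2
    · exfalso
      apply hT.ne
      rw [eq_bot_iff, ← h2]
      exact le_normalClosure
    · exact h2
  rw [← h2]
  show Subgroup.closure (Group.conjugatesOfSet (T : Set G)) ≤ K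
  rw [closure_le]
  intro x hx
  obtain ⟨a, ha, hax⟩ := Group.mem_conjugatesOfSet_iff.1 hx
  obtain ⟨g, rfl⟩ := isConj_iff.1 hax
  exact hK g (conj_mem_cj ha)

/-- `T` is not abelian -/
theorem exists_ne {T : Subgroup G} (hT : MinIn N T) : ∃ a ∈ T, ∃ b ∈ T, a * b ≠ b * a := by
  have hn := hN.normal
  by_contra hcon
  push Not at hcon
  have h1 : ∀ g k : G, cj g T ≤ centralizer (cj k T : Set G) := by
    intro g k x hx
    rw [mem_centralizer_iff]
    intro y hy
    by_cases hgk : cj g T = cj k T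
    · rw [SetLike.mem_coe, mem_cj] at hy
      rw [hgk, mem_cj] at hx
      have h2 := hcon _ hy _ hx
      calc y * x = k * ((k⁻¹ * y * k) * (k⁻¹ * x * k)) * k⁻¹ := by group
        _ = k * ((k⁻¹ * x * k) * (k⁻¹ * y * k)) * k⁻¹ := by rw [h2]
        _ = x * y := by group
    · exact ((hT.cj g).commute (hT.cj k) hgk x hx y hy).symm
  have h2 : ∀ k, N ≤ centralizer (cj k T : Set G) := fun k => hN.le_of_cj_le hT fun g => h1 g k
  have h3 : N ≤ centralizer (N : Set G) := by
    refine hN.le_of_cj_le hT fun g x hx => ?_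
    rw [mem_centralizer_iff]
    intro y hy
    exact (mem_centralizer_iff.1 (h2 g hy) x hx).symm
  obtain ⟨x, hx, y, hy, hxy⟩ := hN.na
  exact hxy (mem_centralizer_iff.1 (h3 hy) x hx)

theorem exists_mul {T : Subgroup G} (hT : MinIn N T) {x : G} (hx : x ∈ N) :
    ∃ t ∈ T, ∃ k ∈ N, k ∈ centralizer (T : Set G) ∧ t * k = x := by
  have hn := hN.normal
  have h1 : N ≤ T ⊔ centralizer (T : Set G) := by
    refine hN.le_of_cj_le hT fun g => ?_
    by_cases hg : T = cj g T
    · rw [← hg]; exact le_sup_left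
    · refine le_trans (fun y hy => ?_) le_sup_right
      rw [mem_centralizer_iff]
      intro a ha
      exact hT.commute (hT.cj g) hg a ha y hy
  have h2 : x ∈ ((T ⊔ centralizer (T : Set G) : Subgroup G) : Set G) := h1 hx
  rw [coe_mul_of_right_le_normalizer_left T _ (centralizer_le_normalizer _)] at h2
  obtain ⟨t, ht, k, hk, rfl⟩ := h2
  refine ⟨t, ht, k, ?_, hk, rfl⟩
  have h3 := mul_mem (inv_mem (hT.le ht)) hx
  rwa [inv_mul_cancel_left] at h3

theorem inf_cent {T : Subgroup G} (hT : MinIn N T) : T ⊓ centralizer (T : Set G) = ⊥ := by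
  by_contra hcon
  have h1 : N ≤ normalizer ((T ⊓ centralizer (T : Set G) : Subgroup G) : Set G) := by
    rw [le_normalizer_iff]
    intro n hn x hx
    have h2 := le_normalizer_iff.1 hT.nor
    refine mem_inf.2 ⟨h2 n hn x hx.1, mem_centralizer_iff.2 fun y hy => ?_⟩
    have h3 := h2 n⁻¹ (inv_mem hn) y hy
    have h4 := mem_centralizer_iff.1 hx.2 _ h3
    rw [inv_inv] at h4
    calc y * (n * x * n⁻¹) = n * ((n⁻¹ * y * n) * x) * n⁻¹ := by group
      _ = n * (x * (n⁻¹ * y * n)) * n⁻¹ := by rw [h4]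
      _ = n * x * n⁻¹ * y := by group
  have h2 := hT.min _ inf_le_left hcon h1
  obtain ⟨a, ha, b, hb, hab⟩ := hN.exists_ne hT
  rw [← h2] at ha
  exact hab (mem_centralizer_iff.1 ha.2 b hb).symm

theorem isSimpleGroup {T : Subgroup G} (hT : MinIn N T) : IsSimpleGroup T := by
  have h0 : Nontrivial T := (Subgroup.nontrivial_iff_ne_bot T).2 hT.ne
  refine { exists_pair_ne := h0.1, eq_bot_or_eq_top_of_normal := fun X hX => ?_ }
  by_cases hX1 : X = ⊥
  · exact Or.inl hX1
  right
  have h1 : X.map T.subtype = T := by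
    apply hT.min _ (map_subtype_le X)
    · intro h2
      exact hX1 ((map_eq_bot_iff_of_injective X T.subtype_injective).1 h2)
    · rw [le_normalizer_iff]
      rintro n hn _ ⟨x, hx, rfl⟩
      obtain ⟨t, ht, k, hk, hkT, rfl⟩ := hN.exists_mul hT hn
      have h3 : k * (x : G) * k⁻¹ = x := by
        rw [← mem_centralizer_iff.1 hkT x x.2, mul_inv_cancel_right]
      refine ⟨⟨t, ht⟩ * x * ⟨t, ht⟩⁻¹, hX.conj_mem x hx _, ?_⟩
      show t * (x : G) * t⁻¹ = t * k * (x : G) * (t * k)⁻¹
      calc t * (x : G) * t⁻¹ = t * (k * (x : G) * k⁻¹) * t⁻¹ := by rw [h3]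
        _ = _ := by group
  rw [eq_top_iff]
  intro x _
  have h2 : (x : G) ∈ X.map T.subtype := by rw [h1]; exact x.2
  obtain ⟨y, hy, hyx⟩ := h2
  have : y = x := Subtype.ext hyx
  rw [← this]; exact hy

/-- `T` is not covered by a dihedral group -/
theorem no_cover {T : Subgroup G} (hT : MinIn N T) (h : IsDih H C)
    (hc : ∀ t ∈ T, ∃ r ∈ H, ∃ k ∈ centralizer (T : Set G), r * k = t) : False := by
  -- the action of `t` on `T` is that of an element of `H`
  have h1 : ∀ t ∈ T, ∃ r ∈ H, ∀ x ∈ T, t * x * t⁻¹ = r * x * r⁻¹ := by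
    intro t ht
    obtain ⟨r, hr, k, hk, rfl⟩ := hc t ht
    refine ⟨r, hr, fun x hx => ?_⟩
    have h3 : k * x * k⁻¹ = x := by
      rw [← mem_centralizer_iff.1 hk x hx, mul_inv_cancel_right]
    calc r * k * x * (r * k)⁻¹ = r * (k * x * k⁻¹) * r⁻¹ := by group
      _ = r * x * r⁻¹ := by rw [h3]
  have h2 : ∀ t ∈ T, ∃ ρ ∈ C, ∀ x ∈ T, (t * t) * x * (t * t)⁻¹ = ρ * x * ρ⁻¹ := by
    intro t ht
    obtain ⟨r, hr, hrt⟩ := h1 t ht
    refine ⟨r * r, ?_, fun x hx => ?_⟩
    · by_cases hrC : r ∈ C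
      · exact mul_mem hrC hrC
      · rw [h.sq r hr hrC]; exact one_mem C
    · have h3 := hrt (t * x * t⁻¹) (mul_mem (mul_mem ht hx) (inv_mem ht))
      have h4 := hrt x hx
      calc (t * t) * x * (t * t)⁻¹ = t * (t * x * t⁻¹) * t⁻¹ := by group
        _ = r * (t * x * t⁻¹) * r⁻¹ := h3
        _ = r * (r * x * r⁻¹) * r⁻¹ := by rw [h4]
        _ = _ := by group
  have hsq : ∀ a ∈ T, ∀ b ∈ T, (a * a) * (b * b) = (b * b) * (a * a) := by
    intro a ha b hb
    obtain ⟨ρ, hρ, hρa⟩ := h2 a ha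
    obtain ⟨σ, hσ, hσb⟩ := h2 b hb
    have haa := mul_mem ha ha
    have hbb := mul_mem hb hb
    have h3 : ((b * b) * (a * a))⁻¹ * ((a * a) * (b * b)) ∈ T ⊓ centralizer (T : Set G) := by
      refine mem_inf.2 ⟨mul_mem (inv_mem (mul_mem hbb haa)) (mul_mem haa hbb),
        mem_centralizer_iff.2 fun x hx => ?_⟩
      have h4 : (a * a) * (b * b) * x * ((a * a) * (b * b))⁻¹ = ρ * σ * x * (ρ * σ)⁻¹ := by
        calc (a * a) * (b * b) * x * ((a * a) * (b * b))⁻¹
            = (a * a) * ((b * b) * x * (b * b)⁻¹) * (a * a)⁻¹ := by group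
          _ = ρ * ((b * b) * x * (b * b)⁻¹) * ρ⁻¹ := hρa _ (mul_mem (mul_mem hbb hx) (inv_mem hbb))
          _ = ρ * (σ * x * σ⁻¹) * ρ⁻¹ := by rw [hσb x hx]
          _ = _ := by group
      have h5 : (b * b) * (a * a) * x * ((b * b) * (a * a))⁻¹ = ρ * σ * x * (ρ * σ)⁻¹ := by
        calc (b * b) * (a * a) * x * ((b * b) * (a * a))⁻¹
            = (b * b) * ((a * a) * x * (a * a)⁻¹) * (b * b)⁻¹ := by group
          _ = σ * ((a * a) * x * (a * a)⁻¹) * σ⁻¹ := hσb _ (mul_mem (mul_mem haa hx) (inv_mem haa))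
          _ = σ * (ρ * x * ρ⁻¹) * σ⁻¹ := by rw [hρa x hx]
          _ = σ * ρ * x * (σ * ρ)⁻¹ := by group
          _ = _ := by rw [h.comm hσ hρ]
      rw [← h5] at h4
      have h6 := congrArg (fun y => ((b * b) * (a * a))⁻¹ * y * ((a * a) * (b * b))) h4
      calc x * (((b * b) * (a * a))⁻¹ * ((a * a) * (b * b)))
          = ((b * b) * (a * a))⁻¹ * ((b * b) * (a * a) * x * ((b * b) * (a * a))⁻¹) *
            ((a * a) * (b * b)) := by group
        _ = ((b * b) * (a * a))⁻¹ * ((a * a) * (b * b) * x * ((a * a) * (b * b))⁻¹) *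
            ((a * a) * (b * b)) := h6.symm
        _ = _ := by group
    rw [hN.inf_cent hT, mem_bot] at h3
    exact (inv_mul_eq_one.1 h3).symm
  -- squares are trivial
  have hone : ∀ a ∈ T, a * a = 1 := by
    by_cases hQ : Subgroup.closure {x : G | ∃ t ∈ T, x = t * t} = ⊥
    · intro a ha
      have : a * a ∈ Subgroup.closure {x : G | ∃ t ∈ T, x = t * t} :=
        subset_closure ⟨a, ha, rfl⟩
      rwa [hQ, mem_bot] at this
    · have hQT : Subgroup.closure {x : G | ∃ t ∈ T, x = t * t} = T := by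
        apply hT.min _ _ hQ
        · refine le_trans ?_ (normalizer_le_normalizer_closure _)
          intro n hn x
          have h3 := le_normalizer_iff.1 hT.nor
          constructor
          · rintro ⟨t, ht, rfl⟩
            exact ⟨n * t * n⁻¹, h3 n hn t ht, by group⟩
          · rintro ⟨t, ht, hxt⟩
            refine ⟨n⁻¹ * t * n, ?_, ?_⟩
            · have := h3 n⁻¹ (inv_mem hn) t ht
              rwa [inv_inv] at this
            · calc x = n⁻¹ * (n * x * n⁻¹) * n := by group
                _ = n⁻¹ * (t * t) * n := by rw [hxt]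
                _ = _ := by group
        · rw [closure_le]
          rintro x ⟨t, ht, rfl⟩
          exact mul_mem ht ht
      intro a ha
      have h3 : T ≤ centralizer {a * a} := by
        rw [← hQT, closure_le]
        rintro x ⟨t, ht, rfl⟩
        rw [SetLike.mem_coe, mem_centralizer_singleton_iff]
        exact hsq t ht a ha
      have h4 : a * a ∈ T ⊓ centralizer (T : Set G) := by
        refine mem_inf.2 ⟨mul_mem ha ha, mem_centralizer_iff.2 fun x hx => ?_⟩
        exact mem_centralizer_singleton_iff.1 (h3 hx)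
      rwa [hN.inf_cent hT, mem_bot] at h4
  obtain ⟨a, ha, b, hb, hab⟩ := hN.exists_ne hT
  apply hab
  have h3 := hone (a * b) (mul_mem ha hb)
  have h4 := hone a ha
  have h5 := hone b hb
  calc a * b = a * ((a * b) * (a * b)) * b := by rw [h3, mul_one]
    _ = (a * a) * b * a * (b * b) := by group
    _ = b * a := by rw [h4, h5]; group

end MinNor

end Cfsg.Agent.H398.Dih
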