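import Mathlib
import Cfsg.Agent.H398.Dih.Simple

/-!
# Finite groups with a core-free maximal dihedral subgroup: a nonabelian minimal normal subgroup is simple
-/

set_option autoImplicit false

namespace Cfsg.Agent.H398.Dih

open Subgroup
open scoped Pointwise

universe u

/-- the existence of four-groups in nonabelian simple groups (statement S0204) -/
def FourHyp : Prop :=
  ∀ (K : Type u) [Group K] [Finite K] [IsSimpleGroup K], ¬ IsCyclic K → ∃ E : Subgroup K, IsKleinFour E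

/-- A finite group with a self-centralising involution has no four-subgroup. -/
theorem not_four {K : Type*} [Group K] [Finite K] {x : K} (hx : x * x = 1) (hx1 : x ≠ 1)
    (hc : ∀ y : K, y * x = x * y → y = 1 ∨ y = x) (E : Subgroup K) (hE : IsKleinFour E) : False := by
  have : Fact (Nat.Prime 2) := ⟨Nat.prime_two⟩
  have h0 : IsPGroup 2 (zpowers x) := by
    apply IsPGroup.of_card (n := 1)
    rw [Nat.card_zpowers, pow_one]
    exact orderOf_eq_prime (by rw [pow_two, hx]) hx1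
  obtain ⟨S, hS⟩ := h0.exists_le_sylow
  have hxS : x ∈ (S : Subgroup K) := hS (mem_zpowers x)
  have hnt : Nontrivial S := ⟨⟨⟨x, hxS⟩, 1, fun h => hx1 (congrArg Subtype.val h)⟩⟩
  have h1 := S.2.center_nontrivial
  obtain ⟨⟨z, hzc⟩, hz1⟩ := _root_.exists_ne (1 : Subgroup.center S)
  have hz1' : (z : K) ≠ 1 := fun h => hz1 (Subtype.ext (Subtype.ext h))
  have hzx : (z : K) = x := by
    rcases hc z (congrArg Subtype.val ((mem_center_iff.1 hzc) ⟨x, hxS⟩)).symm with h | h
    · exact absurd h hz1'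
    · exact h
  have hSle : (S : Subgroup K) ≤ zpowers x := by
    intro s hs
    have h2 : s * x = x * s := by
      rw [← hzx]
      exact congrArg Subtype.val ((mem_center_iff.1 hzc) ⟨s, hs⟩)
    rcases hc s h2 with rfl | rfl
    · exact one_mem _
    · exact mem_zpowers s
  have h3 : Nat.card S ∣ 2 := by
    have h4 := Subgroup.card_dvd_of_le hSle
    have h5 : orderOf x = 2 := orderOf_eq_prime (by rw [pow_two, hx]) hx1
    rwa [Nat.card_zpowers, h5] at h4
  have h4 : 2 ^ 2 ∣ Nat.card K := by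
    have := Subgroup.card_subgroup_dvd_card E
    rwa [hE.card_four] at this
  have h5 := S.pow_dvd_card_of_pow_dvd_card h4
  have h6 := Nat.le_of_dvd (by norm_num) (h5.trans h3)
  norm_num at h6

variable {G : Type u} [Group G] {H C N : Subgroup G}

theorem Max.centralizer_eq_bot [Finite G] (h : Max H C) (hN : MinNor N) : centralizer (N : Set G) = ⊥ := by
  have := hN.normal
  by_contra hcon
  apply h.inf_ne_bot hN.not_nilpotent
  have h2 : H ⊔ centralizer (N : Set G) = ⊤ := h.sup_eq_top hcon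
  refine h.core (H ⊓ N) ?_ inf_le_left
  rw [← normalizer_eq_top_iff, eq_top_iff, ← h2]
  apply sup_le
  · rw [le_normalizer_iff]
    intro x hx y hy
    exact mem_inf.2 ⟨mul_mem (mul_mem hx hy.1) (inv_mem hx), hN.normal.conj_mem y hy.2 x⟩
  · exact (centralizer_le (fun x hx => hx.2)).trans (centralizer_le_normalizer _)

/-- **A nonabelian minimal normal subgroup is simple.** -/
theorem Max.isSimpleGroup [Finite G] (h : Max H C) (hN : MinNor N) (h4 : FourHyp.{u}) : IsSimpleGroup N := by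
  have hn := hN.normal
  -- choice of `T`
  obtain ⟨T₀, hT₀⟩ := exists_minIn hN.ne_bot
  obtain ⟨⟨x, hx⟩, hx1⟩ := ne_bot_iff_exists_ne_one.1 (h.inf_ne_bot hN.not_nilpotent)
  have hx1 : x ≠ 1 := fun h1 => hx1 (Subtype.ext h1)
  obtain ⟨T, hT, hxT⟩ : ∃ T, MinIn N T ∧ x ∉ centralizer (T : Set G) := by
    by_contra hcon
    push Not at hcon
    apply hx1
    rw [← mem_bot, ← h.centralizer_eq_bot hN, mem_centralizer_iff]
    have h1 : N ≤ centralizer {x} := by
      refine hN.le_of_cj_le hT₀ fun g y hy => ?_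
      rw [mem_centralizer_singleton_iff]
      exact mem_centralizer_iff.1 (hcon _ (hT₀.cj g)) y hy
    intro y hy
    exact mem_centralizer_singleton_iff.1 (h1 hy)
  -- the hull `Q` of `H ⊓ N`
  let Kg : G → Subgroup G := fun g => N ⊓ centralizer (cj g T : Set G)
  have hKg : ∀ g, N ≤ normalizer (Kg g : Set G) := by
    intro g
    rw [le_normalizer_iff]
    intro n hn' k hk
    refine mem_inf.2 ⟨hn.conj_mem k hk.1 n, mem_centralizer_iff.2 fun y hy => ?_⟩
    have h3 := le_normalizer_iff.1 (hT.cj g).nor n⁻¹ (inv_mem hn') y hy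
    have h4 := mem_centralizer_iff.1 hk.2 _ h3
    rw [inv_inv] at h4
    calc y * (n * k * n⁻¹) = n * ((n⁻¹ * y * n) * k) * n⁻¹ := by group
      _ = n * (k * (n⁻¹ * y * n)) * n⁻¹ := by rw [h4]
      _ = n * k * n⁻¹ * y := by group
  have hmul : ∀ g y, y ∈ (H ⊓ N) ⊔ Kg g ↔ ∃ r ∈ H ⊓ N, ∃ k ∈ Kg g, r * k = y := by
    intro g y
    rw [← SetLike.mem_coe, coe_mul_of_left_le_normalizer_right (H ⊓ N) (Kg g) (inf_le_right.trans (hKg g))]
    rfl
  let Q : Subgroup G := N ⊓ ⨅ g, (H ⊓ N) ⊔ Kg g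
  have hQ : ∀ y, y ∈ Q ↔ y ∈ N ∧ ∀ g, ∃ r ∈ H ⊓ N, ∃ k ∈ Kg g, r * k = y := by
    intro y
    rw [mem_inf, mem_iInf]
    simp only [hmul]
  have hHQ : H ≤ normalizer (Q : Set G) := by
    rw [le_normalizer_iff]
    intro a ha y hy
    rw [hQ] at hy ⊢
    refine ⟨hn.conj_mem y hy.1 a, fun g => ?_⟩
    obtain ⟨r, hr, k, hk, hrk⟩ := hy.2 (a⁻¹ * g)
    refine ⟨a * r * a⁻¹, mem_inf.2 ⟨mul_mem (mul_mem ha hr.1) (inv_mem ha), hn.conj_mem r hr.2 a⟩,
      a * k * a⁻¹, mem_inf.2 ⟨hn.conj_mem k hk.1 a, mem_centralizer_iff.2 fun z hz => ?_⟩, by rw [← hrk]; group⟩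
    have h3 : a⁻¹ * z * a ∈ cj (a⁻¹ * g) T := by
      rw [← cj_cj, mem_cj]
      have : (a⁻¹)⁻¹ * (a⁻¹ * z * a) * a⁻¹ = z := by group
      rw [this]; exact hz
    have h4 := mem_centralizer_iff.1 hk.2 _ h3
    calc z * (a * k * a⁻¹) = a * ((a⁻¹ * z * a) * k) * a⁻¹ := by group
      _ = a * (k * (a⁻¹ * z * a)) * a⁻¹ := by rw [h4]
      _ = _ := by group
  have hQH : Q ≤ H := by
    by_contra hcon
    have h1 : H ⊔ Q = ⊤ := by
      apply h.max.2
      apply lt_of_le_of_ne le_sup_left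
      intro h2
      exact hcon (by rw [h2]; exact le_sup_right)
    refine hN.no_cover hT h.dih fun t ht => ?_
    have h2 : t ∈ ((H ⊔ Q : Subgroup G) : Set G) := by rw [h1]; exact mem_top t
    rw [coe_mul_of_left_le_normalizer_right H Q hHQ] at h2
    obtain ⟨a, ha, q, hq, haq⟩ := h2
    have haq : a * q = t := haq
    have haN : a ∈ N := by
      have h3 : a = t * q⁻¹ := by rw [← haq]; group
      rw [h3]
      exact mul_mem (hT.le ht) (inv_mem hq.1)
    obtain ⟨r, hr, k, hk, hrk⟩ := ((hQ q).1 hq).2 1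
    refine ⟨a * r, mul_mem ha hr.1, k, ?_, by rw [mul_assoc, hrk, haq]⟩
    have := hk.2
    rwa [cj_one] at this
  -- components of elements of `H ⊓ N` lie in `H`
  have hcomp : ∀ t ∈ T, ∀ k ∈ N, k ∈ centralizer (T : Set G) → t * k ∈ H → t ∈ H := by
    intro t ht k hk hkT htk
    apply hQH
    rw [hQ]
    refine ⟨hT.le ht, fun g => ?_⟩
    by_cases hg : T = cj g T
    · refine ⟨t * k, mem_inf.2 ⟨htk, mul_mem (hT.le ht) hk⟩, k⁻¹, ?_, by group⟩
      exact inv_mem (mem_inf.2 ⟨hk, by rw [← hg]; exact hkT⟩)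
    · refine ⟨1, one_mem _, t, mem_inf.2 ⟨hT.le ht, mem_centralizer_iff.2 fun y hy => ?_⟩, one_mul t⟩
      exact (hT.commute (hT.cj g) hg t ht y hy).symm
  -- an element of `T ⊓ H`
  obtain ⟨t, htT, htH, ht1⟩ : ∃ t ∈ T, t ∈ H ∧ t ≠ 1 := by
    obtain ⟨t, ht, k, hk, hkT, htk⟩ := hN.exists_mul hT hx.2
    refine ⟨t, ht, hcomp t ht k hk hkT (by rw [htk]; exact hx.1), ?_⟩
    rintro rfl
    rw [one_mul] at htk
    rw [htk] at hkT
    exact hxT hkT
  have hsimp := hN.isSimpleGroup hT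
  by_cases hTN : T = N
  · rw [← hTN]; exact hsimp
  exfalso
  obtain ⟨a, haH, ha⟩ : ∃ a ∈ H, cj a T ≠ T := by
    by_contra hcon
    push Not at hcon
    have h1 : T.Normal := by
      rw [← normalizer_eq_top_iff, eq_top_iff, ← h.sup_eq_top hN.ne_bot]
      refine sup_le ?_ hT.nor
      rw [le_normalizer_iff]
      intro a ha y hy
      have := conj_mem_cj (g := a) hy
      rwa [hcon a ha] at this
    rcases hN.min T h1 hT.le with h2 | h2
    · exact hT.ne h2
    · exact hTN h2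
  have hTH : ∀ y ∈ T, y ∈ H → y ∈ C → y = 1 := by
    intro y hy hyH hyC
    have h1 : a * y * a⁻¹ ∈ T := by
      rcases h.dih.conj_or haH hyC with h2 | h2
      · rw [h2]; exact hy
      · rw [h2]; exact inv_mem hy
    have h2 : a * y * a⁻¹ ∈ cj a T ⊓ T := mem_inf.2 ⟨conj_mem_cj hy, h1⟩
    rw [(hT.cj a).inf_eq_bot hT ha, mem_bot] at h2
    calc y = a⁻¹ * (a * y * a⁻¹) * a := by group
      _ = 1 := by rw [h2]; group
  have htC : t ∉ C := fun h1 => ht1 (hTH t htT htH h1)
  have htt : t * t = 1 := h.dih.sq t htH htC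
  have huniq : ∀ y ∈ T, y ∈ H → y = 1 ∨ y = t := by
    intro y hy hyH
    by_cases hy1 : y = 1
    · exact Or.inl hy1
    right
    have hyC : y ∉ C := fun h1 => hy1 (hTH y hy hyH h1)
    have h1 : y * t = 1 := hTH _ (mul_mem hy htT) (mul_mem hyH htH) (h.dih.mul y hyH hyC t htH htC)
    calc y = (y * t) * t⁻¹ := by group
      _ = t⁻¹ := by rw [h1, one_mul]
      _ = t := inv_eq_of_mul_eq_one_left htt
  have hcent : ∀ y ∈ T, y * t = t * y → y ∈ H := by
    intro y hy hyt
    rw [← h.normalizer_eq (X := H ⊓ N) inf_le_left (h.inf_ne_bot hN.not_nilpotent) (by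
      rw [le_normalizer_iff]
      intro b hb z hz
      exact mem_inf.2 ⟨mul_mem (mul_mem hb hz.1) (inv_mem hb), hn.conj_mem z hz.2 b⟩)]
    apply centralizer_le_normalizer
    rw [mem_centralizer_iff]
    rintro z ⟨hzH, hzN⟩
    obtain ⟨s, hs, k, hk, hkT, hsk⟩ := hN.exists_mul hT hzN
    have hsH : s ∈ H := hcomp s hs k hk hkT (by rw [hsk]; exact hzH)
    have h1 : s * y = y * s := by
      rcases huniq s hs hsH with rfl | rfl
      · rw [one_mul, mul_one]
      · exact hyt.symm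
    have h2 : k * y = y * k := (mem_centralizer_iff.1 hkT y hy).symm
    rw [← hsk, mul_assoc, h2, ← mul_assoc, h1, mul_assoc]
  obtain ⟨E, hE⟩ := h4 T (by
    intro hc
    obtain ⟨a, ha, b, hb, hab⟩ := hN.exists_ne hT
    have h1 : IsMulCommutative T := IsCyclic.isMulCommutative
    exact hab (congrArg Subtype.val (h1.is_comm.comm (⟨a, ha⟩ : T) ⟨b, hb⟩)))
  refine not_four (x := (⟨t, htT⟩ : T)) (Subtype.ext htt) (fun h1 => ht1 (congrArg Subtype.val h1)) ?_ E hE
  rintro ⟨y, hy⟩ hyt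
  rcases huniq y hy (hcent y hy (congrArg Subtype.val hyt)) with h1 | h1
  · exact Or.inl (Subtype.ext h1)
  · exact Or.inr (Subtype.ext h1)

end Cfsg.Agent.H398.Dih
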