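import Mathlib
import Cfsg.Agent.Classification.DihedralCentral
import Cfsg.Agent.S3224
import Cfsg.Agent.Classification.QDW.FldInst
import Cfsg.Agent.H398.Dih.Socle
import Cfsg.Agent.H398.Dih.Almost

/-!
# The Sylow 2-subgroups of almost simple groups with a core-free maximal dihedral subgroup
-/

set_option autoImplicit false

namespace Cfsg.Agent.H398.Dih

open Subgroup
open Cfsg.Agent.Classification.DihedralCentral (SubDihedral)

universe u

variable {G : Type u} [Group G] {H C T : Subgroup G}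

/-- `S` is contained in a dihedral group -/
def SD1 (S : Subgroup G) : Prop :=
  ∃ R : Subgroup G, IsCyclic R ∧ ∀ x ∈ S, x ∉ R → x * x = 1 ∧ ∀ y ∈ S, y ∉ R → x * y ∈ R

theorem exists_conj_mem [Finite G] (S : Sylow 2 G) {K : Subgroup G} (hK : IsPGroup 2 K) :
    ∃ g : G, ∀ x ∈ K, g⁻¹ * x * g ∈ (S : Subgroup G) := by
  have : Fact (Nat.Prime 2) := ⟨Nat.prime_two⟩
  obtain ⟨Q, hQ⟩ := hK.exists_le_sylow
  obtain ⟨g, hg⟩ := MulAction.exists_smul_eq G S Q
  refine ⟨g, fun x hx => ?_⟩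
  have h1 : x ∈ ((g • S : Sylow 2 G) : Subgroup G) := by rw [hg]; exact hQ hx
  rw [Sylow.coe_subgroup_smul] at h1
  have h2 := Subgroup.mem_pointwise_smul_iff_inv_smul_mem.1 h1
  rwa [← map_inv, MulAut.smul_def, MulAut.conj_apply, inv_inv] at h2

theorem SD1.subDihedral [Finite G] (S : Sylow 2 G) (hT : T.Normal) (h : SD1 ((S : Subgroup G) ⊓ T)) :
    SubDihedral T := by
  intro K hK
  obtain ⟨R, hR, hRS⟩ := h
  obtain ⟨g, hg⟩ := exists_conj_mem S (hK.map T.subtype)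
  have hg' : ∀ x ∈ K, g⁻¹ * (x : G) * g ∈ (S : Subgroup G) ⊓ T := by
    intro x hx
    refine mem_inf.2 ⟨hg x ⟨x, hx, rfl⟩, ?_⟩
    have := hT.conj_mem _ x.2 g⁻¹
    rwa [inv_inv] at this
  have hcyc : IsCyclic (cj g R) :=
    isCyclic_of_surjective (R.equivMapOfInjective _ (MulAut.conj g).injective)
      (R.equivMapOfInjective _ (MulAut.conj g).injective).surjective
  refine ⟨(cj g R).subgroupOf T, ?_, ?_⟩
  · exact isCyclic_of_injective ((T.subtype).subgroupComap (cj g R))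
      (fun a b hab => Subtype.ext (Subtype.ext (congrArg (fun y : cj g R => (y : G)) hab)))
  · intro x hx hxR
    rw [mem_subgroupOf, mem_cj] at hxR
    obtain ⟨h1, h2⟩ := hRS _ (hg' x hx) hxR
    refine ⟨?_, fun y hy hyR => ?_⟩
    · apply Subtype.ext
      show (x : G) * x = 1
      calc (x : G) * x = g * ((g⁻¹ * (x : G) * g) * (g⁻¹ * (x : G) * g)) * g⁻¹ := by group
        _ = 1 := by rw [h1]; group
    · rw [mem_subgroupOf, mem_cj] at hyR ⊢
      have h3 := h2 _ (hg' y hy) hyR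
      have h4 : g⁻¹ * ((x * y : T) : G) * g = (g⁻¹ * (x : G) * g) * (g⁻¹ * (y : G) * g) := by
        rw [Subgroup.coe_mul]; group
      rw [h4]; exact h3

theorem IsDih.sd1 (h : IsDih H C) {S : Subgroup G} (hS : S ≤ H) : SD1 S :=
  ⟨C, h.cyc, fun x hx hxC => ⟨h.sq x (hS hx) hxC, fun y hy hyC => h.mul x (hS hx) hxC y (hS hy) hyC⟩⟩

namespace Alm

variable (h : Alm H C T)

include h

/-- `4 ∣ |C|` -/
theorem sd_of_four [Finite G] (h4 : 4 ∣ Nat.card C) : SubDihedral T := by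
  have : Fact (Nat.Prime 2) := ⟨Nat.prime_two⟩
  -- an element of order four
  obtain ⟨c, hcC, hc⟩ : ∃ c ∈ C, orderOf c = 4 := by
    have := h.dih.cyc
    obtain ⟨g, hg⟩ := IsCyclic.exists_ofOrder_eq_natCard (α := C)
    refine ⟨(g ^ (Nat.card C / 4) : C), (g ^ (Nat.card C / 4) : C).2, ?_⟩
    have hn : Nat.card C ≠ 0 := by have := h.dih.three; omega
    have hd : Nat.card C / 4 ∣ Nat.card C := Nat.div_dvd_of_dvd h4
    rw [Subgroup.orderOf_coe, orderOf_pow_of_dvd (fun h0 => ?_) (by rw [hg]; exact hd), hg,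
      Nat.div_div_self h4 hn]
    rw [h0] at hd
    exact hn (Nat.eq_zero_of_zero_dvd hd)
  have h0 : IsPGroup 2 (zpowers c) := by
    apply IsPGroup.of_card (n := 2)
    rw [Nat.card_zpowers, hc]; norm_num
  obtain ⟨S, hS⟩ := h0.exists_le_sylow
  have hcS : c ∈ (S : Subgroup G) := hS (mem_zpowers c)
  have hc1 : c ≠ 1 := by
    rintro rfl
    rw [orderOf_one] at hc
    exact absurd hc (by norm_num)
  have hcc : c * c ≠ 1 := by
    intro h1
    have h2 : orderOf c ∣ 2 := orderOf_dvd_of_pow_eq_one (by rw [pow_two, h1])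
    rw [hc] at h2
    exact absurd h2 (by norm_num)
  have hnt : Nontrivial S := ⟨⟨⟨c, hcS⟩, 1, fun h2 => hc1 (congrArg Subtype.val h2)⟩⟩
  have h2 := S.2.center_nontrivial
  obtain ⟨⟨w, hwc⟩, hw1⟩ := _root_.exists_ne (1 : Subgroup.center S)
  have hw1' : (w : G) ≠ 1 := fun h3 => hw1 (Subtype.ext (Subtype.ext h3))
  have hwc' : ∀ s ∈ (S : Subgroup G), s * (w : G) = w * s := by
    intro s hs
    exact congrArg Subtype.val ((mem_center_iff.1 hwc) ⟨s, hs⟩)
  have hwC : (w : G) ∈ C :=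
    h.dih.mem_of_comm (h.mem_of_comm hcC hc1 (hwc' c hcS).symm) hcC hcc (hwc' c hcS).symm
  have hSH : (S : Subgroup G) ≤ H := fun s hs => h.mem_of_comm hwC hw1' (hwc' s hs)
  exact SD1.subDihedral S h.nor (h.dih.sd1 (inf_le_left.trans hSH))

end Alm

/-- involutions of a cyclic subgroup -/
theorem eq_of_cyclic [Finite G] {R : Subgroup G} (hR : IsCyclic R) {a b : G} (ha : a ∈ R) (hb : b ∈ R)
    (ha2 : a * a = 1) (hb2 : b * b = 1) (ha1 : a ≠ 1) (hb1 : b ≠ 1) : a = b := by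
  have hoa : orderOf a = 2 := orderOf_eq_prime (by rw [pow_two, ha2]) ha1
  have hob : orderOf b = 2 := orderOf_eq_prime (by rw [pow_two, hb2]) hb1
  have h1 := Cfsg.Agent.LieRecognition.FT61.Grp.zpowers_eq_of_orderOf hR ha hb (hoa.trans hob.symm)
  have h2 : a ∈ zpowers b := by rw [← h1]; exact mem_zpowers a
  obtain ⟨k, hk⟩ := h2
  have hk' : b ^ k = a := hk
  rcases Int.even_or_odd' k with ⟨j, rfl | rfl⟩
  · exfalso
    apply ha1
    rw [← hk', zpow_mul, zpow_two, hb2, one_zpow]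
  · rw [← hk', zpow_add, zpow_mul, zpow_two, hb2, one_zpow, one_mul, zpow_one]

/-- coordinates of a quasidihedral subgroup -/
structure QD (S : Subgroup G) (n : ℕ) (x y : G) : Prop where
  hn : 3 ≤ n
  hx : x ∈ S
  hy : y ∈ S
  ox : orderOf x = 2 ^ n
  yy : y * y = 1
  conj : ∀ i : ℤ, y * x ^ i * y⁻¹ = x ^ ((2 ^ (n - 1) - 1) * i)
  cov : ∀ s ∈ S, ∃ i : ℤ, s = x ^ i ∨ s = x ^ i * y
  cov' : ∀ i : ℤ, x ^ i * y ∉ zpowers x

theorem exists_QD [Finite G] {S : Subgroup G} (hS : Cfsg.IsQuasiDihedral S) : ∃ n x y, QD S n x y := by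
  obtain ⟨n, hn, hcard, ⟨x, hx⟩, ⟨y, hy⟩, hox, hoy, hxy⟩ := hS
  rw [Subgroup.orderOf_mk] at hox hoy
  have hxy' : y * x * y⁻¹ = x ^ (2 ^ (n - 1) - 1) := congrArg Subtype.val hxy
  have h2n : (2 : ℕ) ≤ 2 ^ (n - 1) := by
    calc 2 = 2 ^ 1 := by norm_num
      _ ≤ _ := Nat.pow_le_pow_right (by norm_num) (by omega)
  have hpow : (2 : ℕ) ^ n = 2 * 2 ^ (n - 1) := by
    rw [← pow_succ']; congr 1; omega
  have hconj : ∀ i : ℤ, y * x ^ i * y⁻¹ = x ^ ((2 ^ (n - 1) - 1) * i) := by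
    intro i
    rw [← conj_zpow, hxy', ← zpow_natCast, ← zpow_mul]
    congr 1
    push_cast [Nat.cast_sub (show 1 ≤ 2 ^ (n - 1) by omega)]
    ring
  have hyx : y ∉ zpowers x := by
    rintro ⟨k, rfl⟩
    have h1 : x ^ (2 ^ (n - 1) - 1) = x := by
      rw [← hxy']
      exact (((Commute.refl x).zpow_left k).mul_inv_cancel)
    have h2 : x ^ (2 ^ (n - 1) - 2) = 1 := by
      have h3 : (2 : ℕ) ^ (n - 1) - 1 = (2 ^ (n - 1) - 2) + 1 := by omega
      rw [h3, pow_succ] at h1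
      exact mul_eq_right.1 h1
    have h3 := orderOf_dvd_of_pow_eq_one h2
    rw [hox, hpow] at h3
    have h4 : (4 : ℕ) ≤ 2 ^ (n - 1) := by
      calc 4 = 2 ^ 2 := by norm_num
        _ ≤ _ := Nat.pow_le_pow_right (by norm_num) (by omega)
    have h5 := Nat.le_of_dvd (by omega) h3
    omega
  have hyy : y * y = 1 := by rw [← pow_two, ← hoy, pow_orderOf_eq_one]
  have hle : zpowers x ≤ S := by rw [zpowers_le]; exact hx
  have hidx : ((zpowers x).subgroupOf S).index = 2 := by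
    have h1 := Subgroup.card_mul_index ((zpowers x).subgroupOf S)
    rw [Nat.card_congr (Subgroup.subgroupOfEquivOfLe hle).toEquiv, Nat.card_zpowers, hox, hcard, pow_succ] at h1
    exact Nat.eq_of_mul_eq_mul_left (by positivity) h1
  refine ⟨n, x, y, hn, hx, hy, hox, hyy, hconj, fun s hs => ?_, fun i hi => ?_⟩
  · by_cases hsx : s ∈ zpowers x
    · obtain ⟨k, hk⟩ := hsx
      exact ⟨k, Or.inl hk.symm⟩
    · have h1 : (⟨s, hs⟩ : S) * ⟨y, hy⟩ ∈ (zpowers x).subgroupOf S := by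
        rw [mul_mem_iff_of_index_two hidx]
        exact iff_of_false hsx hyx
      obtain ⟨k, hk⟩ := h1
      have hk' : x ^ k = s * y := hk
      refine ⟨k, Or.inr ?_⟩
      rw [hk', mul_assoc, hyy, mul_one]
  · apply hyx
    have := mul_mem (inv_mem (zpow_mem (mem_zpowers x) i)) hi
    rwa [inv_mul_cancel_left] at this

namespace QD

variable {S : Subgroup G} {n : ℕ} {x y : G} (q : QD S n x y)

include q

theorem sq (i : ℤ) : (x ^ i * y) * (x ^ i * y) = x ^ (2 ^ (n - 1) * i) := by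
  have h1 := q.conj i
  calc (x ^ i * y) * (x ^ i * y) = x ^ i * (y * x ^ i * y⁻¹) * (y * y) := by group
    _ = x ^ i * x ^ ((2 ^ (n - 1) - 1) * i) := by rw [h1, q.yy, mul_one]
    _ = _ := by
      rw [← zpow_add]
      congr 1
      ring

theorem two_pow : (2 : ℤ) ^ n = 2 ^ (n - 1) * 2 := by
  rw [← pow_succ]
  congr 1
  have := q.hn
  omega

theorem zpow_eq_one_iff (i : ℤ) : x ^ (2 ^ (n - 1) * i) = 1 ↔ Even i := by
  rw [← orderOf_dvd_iff_zpow_eq_one, q.ox]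
  push_cast
  rw [q.two_pow, even_iff_two_dvd]
  exact mul_dvd_mul_iff_left (by positivity)

theorem mul (i j : ℤ) : (x ^ j * y) * (x ^ i * y) = x ^ (j + (2 ^ (n - 1) - 1) * i) := by
  have h1 := q.conj i
  calc (x ^ j * y) * (x ^ i * y) = x ^ j * (y * x ^ i * y⁻¹) * (y * y) := by group
    _ = x ^ j * x ^ ((2 ^ (n - 1) - 1) * i) := by rw [h1, q.yy, mul_one]
    _ = _ := by rw [← zpow_add]

/-- an odd power of `x` generates `⟨x⟩` -/
theorem mem_of_odd {M : Subgroup G} {k : ℤ} (hk : Odd k) (hM : x ^ k ∈ M) : x ∈ M := by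
  have h1 : IsCoprime k ((2 : ℤ) ^ n) := by
    apply IsCoprime.pow_right
    rw [Int.isCoprime_iff_gcd_eq_one]
    obtain ⟨j, rfl⟩ := hk
    rw [← Int.isCoprime_iff_gcd_eq_one]
    exact ⟨1, -j, by ring⟩
  obtain ⟨a, b, hab⟩ := h1
  have h2 : x = (x ^ k) ^ a := by
    rw [← zpow_mul]
    calc x = x ^ (1 : ℤ) := (zpow_one x).symm
      _ = x ^ (a * k + b * 2 ^ n) := by rw [hab]
      _ = x ^ (a * k) * (x ^ ((2 : ℤ) ^ n)) ^ b := by
        rw [zpow_add, ← zpow_mul]; congr 2; ring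
      _ = x ^ (a * k) := by
        have : x ^ ((2 : ℤ) ^ n) = 1 := by
          rw [← orderOf_dvd_iff_zpow_eq_one, q.ox]
          push_cast; exact dvd_rfl
        rw [this, one_zpow, mul_one]
      _ = _ := by rw [mul_comm]
  rw [h2]; exact zpow_mem hM a

theorem sd1 [Finite G] {T : Subgroup G} (hST : ¬ S ≤ T) {e₁ e₂ : G} (h₁ : e₁ ∈ S ⊓ T) (h₂ : e₂ ∈ S ⊓ T)
    (h₁₁ : e₁ * e₁ = 1) (h₂₂ : e₂ * e₂ = 1) (h₁' : e₁ ≠ 1) (h₂' : e₂ ≠ 1) (hne : e₁ ≠ e₂) : SD1 (S ⊓ T) := by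
  -- an involution outside `⟨x⟩`
  obtain ⟨i, hi, hiT⟩ : ∃ i : ℤ, Even i ∧ x ^ i * y ∈ T := by
    obtain ⟨e, heM, hee, hex⟩ : ∃ e ∈ S ⊓ T, e * e = 1 ∧ e ∉ zpowers x := by
      by_contra hcon
      push Not at hcon
      exact hne (eq_of_cyclic (R := zpowers x) inferInstance (hcon e₁ h₁ h₁₁) (hcon e₂ h₂ h₂₂) h₁₁ h₂₂ h₁' h₂')
    obtain ⟨i, rfl | rfl⟩ := q.cov e heM.1
    · exact absurd (zpow_mem (mem_zpowers x) i) hex
    · refine ⟨i, ?_, heM.2⟩
      rw [q.sq, q.zpow_eq_one_iff] at hee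
      exact hee
  have hxT : x ∉ T := by
    intro hxT
    apply hST
    have hyT : y ∈ T := by
      have := mul_mem (inv_mem (zpow_mem hxT i)) hiT
      rwa [inv_mul_cancel_left] at this
    intro s hs
    obtain ⟨k, rfl | rfl⟩ := q.cov s hs
    · exact zpow_mem hxT k
    · exact mul_mem (zpow_mem hxT k) hyT
  have hodd : Odd ((2 : ℤ) ^ (n - 1) - 1) := by
    have h3 : Even ((2 : ℤ) ^ (n - 1)) := by
      rw [Int.even_pow]
      exact ⟨even_two, by have := q.hn; omega⟩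
    exact h3.sub_odd odd_one
  have hev : ∀ j : ℤ, x ^ j * y ∈ T → Even j := by
    intro j hj
    by_contra hcon
    rw [Int.not_even_iff_odd] at hcon
    apply hxT
    apply q.mem_of_odd (k := j + (2 ^ (n - 1) - 1) * i)
    · exact hcon.add_even (hi.mul_left _)
    · rw [← q.mul]
      exact mul_mem hj hiT
  refine ⟨zpowers x, inferInstance, fun g hg hgx => ?_⟩
  obtain ⟨j, rfl | rfl⟩ := q.cov g hg.1
  · exact absurd (zpow_mem (mem_zpowers x) j) hgx
  refine ⟨by rw [q.sq, q.zpow_eq_one_iff]; exact hev j hg.2, fun g' hg' hgx' => ?_⟩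
  obtain ⟨k, rfl | rfl⟩ := q.cov g' hg'.1
  · exact absurd (zpow_mem (mem_zpowers x) k) hgx'
  · rw [q.mul]
    exact zpow_mem (mem_zpowers x) _

/-- the central involution -/
theorem central : ∃ w ∈ S, w ≠ 1 ∧ w * w = 1 ∧ ∀ s ∈ S, s * w = w * s := by
  have hw : x ^ ((2 : ℤ) ^ (n - 1)) ≠ 1 := by
    intro h1
    have h2 := (q.zpow_eq_one_iff 1).1 (by rwa [mul_one])
    exact absurd h2 (by decide)
  refine ⟨x ^ ((2 : ℤ) ^ (n - 1)), zpow_mem q.hx _, hw, ?_, fun s hs => ?_⟩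
  · rw [← zpow_add, ← mul_two, q.zpow_eq_one_iff]
    exact even_two
  · have h1 : y * x ^ ((2 : ℤ) ^ (n - 1)) = x ^ ((2 : ℤ) ^ (n - 1)) * y := by
      have h2 := q.conj (2 ^ (n - 1))
      have h3 : x ^ (((2 : ℤ) ^ (n - 1) - 1) * 2 ^ (n - 1)) = x ^ ((2 : ℤ) ^ (n - 1)) := by
        have h4 : ((2 : ℤ) ^ (n - 1) - 1) * 2 ^ (n - 1) =
            2 ^ (n - 1) + 2 ^ (n - 1) * (2 ^ (n - 1) - 2) := by ring
        rw [h4, zpow_add]
        have h5 : x ^ ((2 : ℤ) ^ (n - 1) * (2 ^ (n - 1) - 2)) = 1 := by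
          rw [q.zpow_eq_one_iff]
          have h6 : Even ((2 : ℤ) ^ (n - 1)) := by
            rw [Int.even_pow]
            exact ⟨even_two, by have := q.hn; omega⟩
          exact h6.sub even_two
        rw [h5, mul_one]
      rw [h3] at h2
      calc y * x ^ ((2 : ℤ) ^ (n - 1)) = (y * x ^ ((2 : ℤ) ^ (n - 1)) * y⁻¹) * y := by group
        _ = _ := by rw [h2]
    obtain ⟨k, rfl | rfl⟩ := q.cov s hs
    · rw [← zpow_add, ← zpow_add, add_comm]
    · rw [mul_assoc, h1, ← mul_assoc, ← mul_assoc, ← zpow_add, ← zpow_add, add_comm]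

end QD

end Cfsg.Agent.H398.Dih
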