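import Mathlib
import Cfsg.Agent.H398.Dih.Sylow

/-!
# Almost simple groups with a core-free maximal dihedral subgroup: dihedral Sylow 2-subgroups of the socle
-/

set_option autoImplicit false

namespace Cfsg.Agent.H398.Dih

open Subgroup
open Cfsg.Agent.Classification.DihedralCentral (SubDihedral)

universe u

variable {G : Type u} [Group G] {H C T : Subgroup G}

theorem isQuasiDihedral_congr {A B : Type*} [Group A] [Group B] (e : A ≃* B) (h : Cfsg.IsQuasiDihedral A) :
    Cfsg.IsQuasiDihedral B := by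
  obtain ⟨n, hn, hcard, x, y, hx, hy, hxy⟩ := h
  refine ⟨n, hn, by rw [← hcard, Nat.card_congr e.toEquiv], e x, e y, ?_, ?_, ?_⟩
  · rw [MulEquiv.orderOf_eq]; exact hx
  · rw [MulEquiv.orderOf_eq]; exact hy
  · rw [← map_inv, ← map_mul, ← map_mul, hxy, map_pow]

namespace Alm

variable (h : Alm H C T)

include h

theorem card_H [Finite G] : Nat.card H = 2 * Nat.card C := by
  obtain ⟨s, hs, hsC⟩ := h.dih.ex
  exact card_eq_two_mul h.dih.le hs hsC fun t ht htC => h.dih.mul s hs hsC t ht htC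

theorem subDihedral [Finite G] (heven : Even (Nat.card C)) (hF : FourHyp.{u}) : SubDihedral T := by
  have : Fact (Nat.Prime 2) := ⟨Nat.prime_two⟩
  by_cases h4 : 4 ∣ Nat.card C
  · exact h.sd_of_four h4
  have hn := h.nor
  obtain ⟨z, hzC, hz1, hzz, hzH, hHz⟩ := h.exists_z heven
  obtain ⟨s, hs, hsC⟩ := h.dih.ex
  have hzH' := h.dih.le hzC
  have hoz : orderOf z = 2 := orderOf_eq_prime (by rw [pow_two, hzz]) hz1
  have hos : orderOf s = 2 := by
    refine orderOf_eq_prime (by rw [pow_two, h.dih.sq s hs hsC]) ?_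
    rintro rfl
    exact hsC (one_mem C)
  have hnz : (zpowers (⟨z, hzH'⟩ : H)).Normal := by
    constructor
    rintro _ ⟨k, rfl⟩ g
    refine ⟨k, ?_⟩
    have h1 : g * (⟨z, hzH'⟩ : H) = ⟨z, hzH'⟩ * g := Subtype.ext (hzH g g.2)
    have h2 : Commute g ((⟨z, hzH'⟩ : H) ^ k) := (show Commute g (⟨z, hzH'⟩ : H) from h1).zpow_right k
    show (⟨z, hzH'⟩ : H) ^ k = g * (⟨z, hzH'⟩ : H) ^ k * g⁻¹
    rw [h2.eq, mul_inv_cancel_right]
  have h2g : IsPGroup 2 (zpowers (⟨s, hs⟩ : H) ⊔ zpowers (⟨z, hzH'⟩ : H) : Subgroup H) := by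
    apply IsPGroup.to_sup_of_normal_right
    · apply IsPGroup.of_card (n := 1)
      rw [Nat.card_zpowers, Subgroup.orderOf_mk, hos, pow_one]
    · apply IsPGroup.of_card (n := 1)
      rw [Nat.card_zpowers, Subgroup.orderOf_mk, hoz, pow_one]
  obtain ⟨S, hS⟩ := (h2g.map H.subtype).exists_le_sylow
  have hzS : z ∈ (S : Subgroup G) := hS ⟨⟨z, hzH'⟩, le_sup_right (a := zpowers (⟨s, hs⟩ : H)) (mem_zpowers _), rfl⟩
  have hsS : s ∈ (S : Subgroup G) := hS ⟨⟨s, hs⟩, le_sup_left (b := zpowers (⟨z, hzH'⟩ : H)) (mem_zpowers _), rfl⟩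
  -- the order of `S ⊓ H`
  have hcard : Nat.card (H ⊓ (S : Subgroup G) : Subgroup G) = 4 := by
    have hp : IsPGroup 2 (H ⊓ (S : Subgroup G) : Subgroup G) := S.2.to_le inf_le_right
    obtain ⟨j, hj⟩ := IsPGroup.iff_card.1 hp
    have h1 : Nat.card (H ⊓ (S : Subgroup G) : Subgroup G) ∣ Nat.card H := Subgroup.card_dvd_of_le inf_le_left
    obtain ⟨k, hk⟩ := even_iff_two_dvd.1 heven
    have hkodd : ¬ 2 ∣ k := by
      rintro ⟨l, rfl⟩
      exact h4 ⟨l, by rw [hk]; ring⟩
    rw [h.card_H, hk, hj] at h1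
    have h2 : 2 ^ j ∣ 4 := by
      have h3 : Nat.Coprime (2 ^ j) k := Nat.Coprime.pow_left j ((Nat.Prime.coprime_iff_not_dvd Nat.prime_two).2 hkodd)
      apply h3.dvd_of_dvd_mul_right
      have : 4 * k = 2 * (2 * k) := by ring
      rw [this]; exact h1
    have h5 : 2 ∣ Nat.card (H ⊓ (S : Subgroup G) : Subgroup G) := by
      have h6 : zpowers z ≤ H ⊓ (S : Subgroup G) := by
        rw [zpowers_le]; exact mem_inf.2 ⟨hzH', hzS⟩
      have h7 := Subgroup.card_dvd_of_le h6
      rwa [Nat.card_zpowers, hoz] at h7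
    have h8 : Nat.card (H ⊓ (S : Subgroup G) : Subgroup G) ≠ 2 := by
      intro h9
      have h6 : zpowers z ≤ H ⊓ (S : Subgroup G) := by
        rw [zpowers_le]; exact mem_inf.2 ⟨hzH', hzS⟩
      have h7 : zpowers z = H ⊓ (S : Subgroup G) := by
        apply Subgroup.eq_of_le_of_card_ge h6
        rw [h9, Nat.card_zpowers, hoz]
      have h8 : s ∈ zpowers z := by rw [h7]; exact mem_inf.2 ⟨hs, hsS⟩
      have h9 : zpowers z ≤ C := by rw [zpowers_le]; exact hzC
      exact hsC (h9 h8)
    rw [← hj] at h2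
    have h10 := Nat.le_of_dvd (by norm_num) h2
    interval_cases hc : Nat.card (H ⊓ (S : Subgroup G) : Subgroup G)
    · omega
    · omega
    · exact absurd rfl h8
    · omega
    · rfl
  have hcen : Nat.card (centralizer ({(⟨z, hzS⟩ : S)} : Set S)) = 4 := by
    have h1 : centralizer ({(⟨z, hzS⟩ : S)} : Set S) = H.subgroupOf (S : Subgroup G) := by
      ext y
      rw [mem_centralizer_singleton_iff, mem_subgroupOf]
      constructor
      · intro hy
        exact hHz y (congrArg Subtype.val hy)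
      · intro hy
        exact Subtype.ext (hzH y hy)
    rw [h1, ← inf_subgroupOf_right, Nat.card_congr (Subgroup.subgroupOfEquivOfLe inf_le_right).toEquiv, hcard]
  rcases Cfsg.Agent.S3224.result S.2 (⟨z, hzS⟩ : S) (by rw [Subgroup.orderOf_mk]; exact hoz) hcen with
    ⟨n, ⟨e⟩⟩ | hqd | hS4
  · exact Cfsg.Agent.Classification.DihedralCentral.subDihedral_of_injective T.subtype T.subtype_injective
      (Cfsg.Agent.Classification.DihedralCentral.subDihedral_of_sylow S n e)
  · obtain ⟨n, x, y, q⟩ := exists_QD hqd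
    by_cases hST : (S : Subgroup G) ≤ T
    · -- one class of involutions
      exfalso
      obtain ⟨w, hwS, hw1, hww, hwc⟩ := q.central
      have hsimp := h.simp
      have hqd' : Cfsg.IsQuasiDihedral ((S.subtype hST : Sylow 2 T) : Subgroup T) := by
        refine isQuasiDihedral_congr ?_ hqd
        exact (Subgroup.subgroupOfEquivOfLe hST).symm
      have how : orderOf (⟨w, hST hwS⟩ : T) = 2 := by
        rw [Subgroup.orderOf_mk]
        exact orderOf_eq_prime (by rw [pow_two, hww]) hw1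
      have hconj := Cfsg.Agent.Classification.QDW.FldInst.one_class (S.subtype hST) (Or.inl hqd') how
        (⟨z, hST hzS⟩ : T) (by rw [Subgroup.orderOf_mk]; exact hoz)
      obtain ⟨g, hg⟩ := isConj_iff.1 hconj
      have hg' : (g : G) * w * (g : G)⁻¹ = z := congrArg Subtype.val hg
      have h1 : cj (g : G) (S : Subgroup G) ≤ H := by
        intro a ha
        rw [mem_cj] at ha
        apply hHz
        have h2 := hwc _ ha
        rw [← hg']
        calc a * ((g : G) * w * (g : G)⁻¹) = g * (((g : G)⁻¹ * a * g) * w) * (g : G)⁻¹ := by group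
          _ = g * (w * ((g : G)⁻¹ * a * g)) * (g : G)⁻¹ := by rw [h2]
          _ = _ := by group
      have h2 := Subgroup.card_dvd_of_le h1
      rw [card_cj, h.card_H] at h2
      obtain ⟨n', hn', hcard', -⟩ := hqd
      rw [hcard'] at h2
      apply h4
      have h3 : (2 : ℕ) ^ (n' + 1) = 2 * (4 * 2 ^ (n' - 2)) := by
        have : n' + 1 = 3 + (n' - 2) := by omega
        rw [this, pow_add]; ring
      rw [h3] at h2
      exact (Dvd.intro _ rfl).trans (Nat.dvd_of_mul_dvd_mul_left (by norm_num) h2)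
    · -- two involutions in `S ⊓ T`
      have hsimp := h.simp
      obtain ⟨E, hE⟩ := hF T (fun hc => h.na IsCyclic.isMulCommutative)
      have hE2 : IsPGroup 2 E := IsPGroup.of_card (n := 2) (by rw [hE.card_four]; norm_num)
      obtain ⟨g, hg⟩ := exists_conj_mem S (hE2.map T.subtype)
      have hEsq : ∀ e : E, e * e = 1 := fun e => by
        have := Monoid.pow_exponent_eq_one e
        rw [hE.exponent_two] at this
        rwa [← pow_two]
      have hthree : ∃ a b : E, a ≠ 1 ∧ b ≠ 1 ∧ a ≠ b := by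
        have := Fintype.ofFinite E
        have hc := hE.card_four
        rw [Nat.card_eq_fintype_card] at hc
        obtain ⟨a, b, c, hab, hac, hbc⟩ := Fintype.two_lt_card_iff.1 (show 2 < Fintype.card E by omega)
        by_cases ha : a = 1
        · subst ha
          exact ⟨b, c, hab.symm, hac.symm, hbc⟩
        by_cases hb : b = 1
        · subst hb
          exact ⟨a, c, ha, hbc.symm, hac⟩
        · exact ⟨a, b, ha, hb, hab⟩
      obtain ⟨a, b, ha, hb, hab⟩ := hthree
      have hmem : ∀ e : E, g⁻¹ * ((e : T) : G) * g ∈ (S : Subgroup G) ⊓ T := by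
        intro e
        refine mem_inf.2 ⟨hg _ ⟨e, e.2, rfl⟩, ?_⟩
        have := hn.conj_mem _ (e : T).2 g⁻¹
        rwa [inv_inv] at this
      have hsq : ∀ e : E, (g⁻¹ * ((e : T) : G) * g) * (g⁻¹ * ((e : T) : G) * g) = 1 := by
        intro e
        have h1 : ((e : T) : G) * ((e : T) : G) = 1 := congrArg (fun y : E => ((y : T) : G)) (hEsq e)
        calc (g⁻¹ * ((e : T) : G) * g) * (g⁻¹ * ((e : T) : G) * g) = g⁻¹ * (((e : T) : G) * ((e : T) : G)) * g := by
              group
          _ = 1 := by rw [h1]; group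
      have hinj : ∀ e f : E, g⁻¹ * ((e : T) : G) * g = g⁻¹ * ((f : T) : G) * g → e = f := by
        intro e f hef
        exact Subtype.ext (Subtype.ext (mul_left_cancel (mul_right_cancel hef)))
      have hne : ∀ e : E, e ≠ 1 → g⁻¹ * ((e : T) : G) * g ≠ 1 := by
        intro e he h1
        apply he
        apply hinj
        rw [h1, Subgroup.coe_one, Subgroup.coe_one, mul_one, inv_mul_cancel]
      exact SD1.subDihedral S h.nor (q.sd1 hST (hmem a) (hmem b) (hsq a) (hsq b) (hne a ha) (hne b hb)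
        (fun h1 => hab (hinj _ _ h1)))
  · -- `S ≤ H`
    apply SD1.subDihedral S h.nor
    refine h.dih.sd1 (inf_le_left.trans ?_)
    have h1 : H ⊓ (S : Subgroup G) = S := by
      apply Subgroup.eq_of_le_of_card_ge inf_le_right
      rw [hcard]; exact hS4.le
    rw [← h1]; exact inf_le_left

end Alm

end Cfsg.Agent.H398.Dih
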