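import Mathlib
import Cfsg.Agent.Classification.DihReduction
import Cfsg.Agent.H398.CC.Known
import Cfsg.Agent.H398.Dih.Even
import Cfsg.Agent.H398.Dih.Affine
import Cfsg.Agent.H398.Dih.AltSeven

/-!
# Finite groups with a core-free maximal dihedral subgroup
-/

set_option autoImplicit false

namespace Cfsg.Agent.H398.Dih

open Subgroup
open scoped commutatorElement
open Cfsg.Agent.H398.CC (Concl SteinHyp)

universe u v

/-- the Gorenstein–Walter theorem (statement S0483) -/
def GWHyp : Prop :=
  ∀ (X : Type u) [Group X] [Finite X] [Group.IsPerfect X] (S : Sylow 2 X) (n : ℕ), 2 ≤ n →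
    Nonempty ((S : Subgroup X) ≃* DihedralGroup n) →
    (∃ (F : Type) (_ : Field F) (_ : Fintype F), Odd (Fintype.card F) ∧ 3 < Fintype.card F ∧
        Nonempty (X ⧸ Cfsg.oddCore X ≃* Matrix.ProjectiveSpecialLinearGroup (Fin 2) F)) ∨
      Nonempty (X ⧸ Cfsg.oddCore X ≃* alternatingGroup (Fin 7))

theorem oddCore_eq_bot {X : Type u} [Group X] [Finite X] [IsSimpleGroup X] (h2 : 2 ∣ Nat.card X) :
    Cfsg.oddCore X = ⊥ := by
  rw [eq_bot_iff]
  apply sSup_le
  rintro N ⟨hN, hc⟩
  rcases IsSimpleGroup.eq_bot_or_eq_top_of_normal N hN with h | h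
  · exact h.le
  · exfalso
    rw [h, Subgroup.card_top] at hc
    have h3 := Nat.dvd_gcd h2 dvd_rfl
    rw [hc] at h3
    exact absurd h3 (by norm_num)

theorem isPerfect {X : Type u} [Group X] [IsSimpleGroup X] (hna : ¬ IsMulCommutative X) : Group.IsPerfect X := by
  rw [Group.isPerfect_def]
  rcases IsSimpleGroup.eq_bot_or_eq_top_of_normal (commutator X) inferInstance with h | h
  · exfalso
    apply hna
    refine ⟨⟨fun a b => ?_⟩⟩
    have h1 : ⁅a, b⁆ ∈ commutator X := Subgroup.commutator_mem_commutator (mem_top a) (mem_top b)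
    rw [h, mem_bot] at h1
    exact commutatorElement_eq_one_iff_mul_comm.1 h1
  · exact h

/-- a simple group with Sylow 2-subgroups contained in a dihedral group -/
theorem gw {X : Type u} [Group X] [Finite X] [hX : IsSimpleGroup X] (hna : ¬ IsMulCommutative X)
    (hD : Cfsg.Agent.Classification.DihedralCentral.SubDihedral X) (hF : FourHyp.{u}) (hGW : GWHyp.{u}) :
    Concl X ∨ Nonempty (X ≃* alternatingGroup (Fin 7)) := by
  have : Fact (Nat.Prime 2) := ⟨Nat.prime_two⟩
  obtain ⟨E, hE⟩ := hF X (fun hc => hna IsCyclic.isMulCommutative)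
  have h2 : 2 ∣ Nat.card X := by
    have := Subgroup.card_subgroup_dvd_card E
    rw [hE.card_four] at this
    exact (by norm_num : 2 ∣ 4).trans this
  have S : Sylow 2 X := default
  rcases Cfsg.Agent.Classification.DihReduction.isCyclic_or_dihedral hD S S.2 with hc | ⟨m, hm, he⟩
  · -- cyclic Sylow subgroups: no four-group
    exfalso
    have hE2 : IsPGroup 2 E := IsPGroup.of_card (n := 2) (by rw [hE.card_four]; norm_num)
    obtain ⟨g, hg⟩ := exists_conj_mem S hE2
    have := Fintype.ofFinite E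
    have hcE := hE.card_four
    rw [Nat.card_eq_fintype_card] at hcE
    obtain ⟨a, b, c, hab, hac, hbc⟩ := Fintype.two_lt_card_iff.1 (show 2 < Fintype.card E by omega)
    have hEsq : ∀ e : E, (e : X) * e = 1 := fun e => by
      have := Monoid.pow_exponent_eq_one e
      rw [hE.exponent_two, pow_two] at this
      exact congrArg Subtype.val this
    have hinj : ∀ e f : E, g⁻¹ * (e : X) * g = g⁻¹ * (f : X) * g → e = f := fun e f hef =>
      Subtype.ext (mul_left_cancel (mul_right_cancel hef))
    have key : ∀ e f : E, e ≠ 1 → f ≠ 1 → e = f := by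
      intro e f he hf
      have hsq : ∀ e : E, (g⁻¹ * (e : X) * g) * (g⁻¹ * (e : X) * g) = 1 := by
        intro e
        calc (g⁻¹ * (e : X) * g) * (g⁻¹ * (e : X) * g) = g⁻¹ * ((e : X) * e) * g := by group
          _ = 1 := by rw [hEsq]; group
      have hne : ∀ e : E, e ≠ 1 → g⁻¹ * (e : X) * g ≠ 1 := by
        intro e he h1
        apply he
        apply hinj
        rw [h1, Subgroup.coe_one, mul_one, inv_mul_cancel]
      exact hinj e f (eq_of_cyclic hc (hg _ e.2) (hg _ f.2) (hsq e) (hsq f) (hne e he) (hne f hf))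
    by_cases ha : a = 1
    · exact hbc (key b c (fun h => hab (ha.trans h.symm)) (fun h => hac (ha.trans h.symm)))
    by_cases hb : b = 1
    · exact hac (key a c ha (fun h => hbc (hb.trans h.symm)))
    · exact hab (key a b ha hb)
  · have hp := isPerfect hna
    have hO := oddCore_eq_bot h2
    rcases hGW X S m hm he with ⟨F, i1, i2, -, h3, ⟨e⟩⟩ | ⟨⟨e⟩⟩
    · left; left
      refine ⟨F, i1, i2, h3, ⟨?_⟩⟩
      exact (QuotientGroup.quotientBot.symm.trans (QuotientGroup.quotientMulEquivOfEq hO.symm)).trans e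
    · right
      exact ⟨(QuotientGroup.quotientBot.symm.trans (QuotientGroup.quotientMulEquivOfEq hO.symm)).trans e⟩

variable {G : Type u} [Group G] [Finite G] {H C T : Subgroup G}

/-- **Almost simple groups with a core-free maximal dihedral subgroup** -/
theorem Alm.concl (h : Alm H C T) (hS : ∀ (X : Type u) [Group X] [Finite X] [IsSimpleGroup X], Cfsg.IsKnownSimple' X)
    (O : Cfsg.Agent.OrdDiv.OrderTable.{u}) (hSt : SteinHyp.{u}) (hF : FourHyp.{u}) (hGW : GWHyp.{u}) : Concl T := by
  have hsimp := h.simp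
  rcases Nat.even_or_odd (Nat.card C) with heven | hodd
  · have hD := h.subDihedral heven hF
    rcases gw h.na hD hF hGW with hc | ⟨⟨e⟩⟩
    · exact hc
    · exfalso
      obtain ⟨z, hzC, hz1, hzz, hzH, hHz⟩ := h.exists_z heven
      by_cases hzT : z ∈ T
      · -- `C_T(z)` is contained in a dihedral group
        obtain ⟨y, t, hy, hy1, ht, ht1, htw, hyw, hwt, hyt⟩ := alt_seven (e ⟨z, hzT⟩)
          (by rw [← map_mul, ← map_one e]; exact congrArg e (Subtype.ext hzz))
          (by
            intro h1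
            rw [← map_one e] at h1
            exact hz1 (congrArg Subtype.val (e.injective h1)))
        have hy' : (e.symm y) * (e.symm y) * (e.symm y) = 1 := by rw [← map_mul, ← map_mul, hy, map_one]
        have ht' : (e.symm t) * (e.symm t) = 1 := by rw [← map_mul, ht, map_one]
        have hy1' : e.symm y ≠ 1 := fun h1 => hy1 (by rw [← map_one e.symm] at h1; exact e.symm.injective h1)
        have ht1' : e.symm t ≠ 1 := fun h1 => ht1 (by rw [← map_one e.symm] at h1; exact e.symm.injective h1)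
        have htw' : e.symm t ≠ ⟨z, hzT⟩ := fun h1 => htw (by rw [← h1, e.apply_symm_apply])
        have hyw' : e.symm y * ⟨z, hzT⟩ = ⟨z, hzT⟩ * e.symm y := by
          apply e.injective
          rw [map_mul, map_mul, e.apply_symm_apply]; exact hyw
        have htw'' : e.symm t * ⟨z, hzT⟩ = ⟨z, hzT⟩ * e.symm t := by
          apply e.injective
          rw [map_mul, map_mul, e.apply_symm_apply]; exact hwt
        have hyt' : e.symm y * e.symm t = e.symm t * e.symm y := by rw [← map_mul, hyt, map_mul]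
        have hyH : ((e.symm y : T) : G) ∈ H := hHz _ (congrArg Subtype.val hyw')
        have htH : ((e.symm t : T) : G) ∈ H := hHz _ (congrArg Subtype.val htw'')
        have hy3 : ((e.symm y : T) : G) * ((e.symm y : T) : G) * ((e.symm y : T) : G) = 1 := congrArg Subtype.val hy'
        have hyne : ((e.symm y : T) : G) ≠ 1 := fun h1 => hy1' (Subtype.ext h1)
        have hyy : ((e.symm y : T) : G) * ((e.symm y : T) : G) ≠ 1 := by
          intro h1
          rw [h1, one_mul] at hy3
          exact hyne hy3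
        have hyC := h.dih.mem_of_sq_ne hyH hyy
        have htC := h.dih.mem_of_comm htH hyC hyy (congrArg Subtype.val hyt').symm
        have htt : ((e.symm t : T) : G) * ((e.symm t : T) : G) = 1 := congrArg Subtype.val ht'
        have htne : ((e.symm t : T) : G) ≠ 1 := fun h1 => ht1' (Subtype.ext h1)
        exact htw' (Subtype.ext (h.dih.eq_of_sq htC hzC htt hzz htne hz1))
      · exact (h.isDCC (h.odd_of_not_mem hzC hz1 hzz hzT)).false_of_alt_seven e
  · have hT := h.eq_top_of_odd hodd
    have hodd' : Odd (Nat.card (C ⊓ T : Subgroup G)) := by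
      rw [hT, inf_top_eq]; exact hodd
    exact (h.isDCC hodd').known O hSt (h.isCoatom_of_top hT) (hS T)

/-- **Primitive groups with a dihedral point stabilizer** -/
theorem main {Ω : Type v} [MulAction G Ω] [FaithfulSMul G Ω] 
    (hS : ∀ (X : Type u) [Group X] [Finite X] [IsSimpleGroup X], Cfsg.IsKnownSimple' X)
    (O : Cfsg.Agent.OrdDiv.OrderTable.{u}) (hSt : SteinHyp.{u}) (hF : FourHyp.{u}) (hGW : GWHyp.{u})
    (hprim : MulAction.IsPreprimitive G Ω) (a : Ω) (m : ℕ) (hm : 3 ≤ m)
    (hdih : Nonempty (↥(MulAction.stabilizer G a) ≃* DihedralGroup m)) :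
    (∃ (N : Subgroup G) (r : ℕ), r.Prime ∧ N.Normal ∧ Cfsg.IsElementaryAbelian r N ∧
      MulAction.IsPretransitive ↥N Ω ∧ ∀ a : Ω, MulAction.stabilizer ↥N a = ⊥) ∨
    (∃ T : Subgroup G, T.Normal ∧ Subgroup.centralizer (T : Set G) = ⊥ ∧ Concl T) := by
  obtain ⟨e⟩ := hdih
  obtain ⟨C, hmx, -⟩ := exists_max hprim a hm e
  have hnt : Nontrivial G := by
    obtain ⟨s, hs, hsC⟩ := hmx.dih.ex
    exact ⟨s, 1, fun h1 => hsC (by rw [h1]; exact one_mem C)⟩
  obtain ⟨N, hN, hN0, hmin⟩ := exists_minNormal (G := G)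
  by_cases hab : ∀ x ∈ N, ∀ y ∈ N, x * y = y * x
  · obtain ⟨r, hr, h1, h2, h3⟩ := affine hprim N hN0 hmin hab
    exact Or.inl ⟨N, r, hr, hN, h1, h2, h3⟩
  · push Not at hab
    have hMN : MinNor N := ⟨hN, hmin, hab⟩
    have hna : ¬ IsMulCommutative N := by
      intro hc
      obtain ⟨x, hx, y, hy, hxy⟩ := hab
      exact hxy (congrArg Subtype.val (hc.is_comm.comm (⟨x, hx⟩ : N) ⟨y, hy⟩))
    have hA : Alm (MulAction.stabilizer G a) C N :=
      ⟨hmx, hN, hmx.isSimpleGroup hMN hF, hna, hmx.inf_ne_bot hMN.not_nilpotent⟩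
    exact Or.inr ⟨N, hN, hmx.centralizer_eq_bot hMN, hA.concl hS O hSt hF hGW⟩

end Cfsg.Agent.H398.Dih
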